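import Cfsg.Agent.SchurG.HS.Pres

set_option autoImplicit false
set_option maxRecDepth 100000

namespace Cfsg.Agent.SchurG.HS
open Cfsg.Agent.Comp

noncomputable def n0 : Net :=
(Net.cons (nat_lit 0x88a561de324572f9718480) (nat_lit 88)
(Net.cons (nat_lit 0x69ac953adca00000000000a15cc0d2980) (nat_lit 44)
(Net.cons (nat_lit 0x2b02000002158a0000002ab630000001d0518) (nat_lit 22)
(Net.cons (nat_lit 0x108000194001f980052800045000124000220002e0) (nat_lit 11)
(Net.cons (nat_lit 0x1c0640b0010000600200b034040030080020300081a) (nat_lit 6)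
(Net.cons (nat_lit 0x118410061082100204400c0002008210000060086) (nat_lit 3)
(Net.cons (nat_lit 0x10400801000020008400100202080800002400800) (nat_lit 1)
(Net.cons (nat_lit 0x10420809092020248010820240404909002404849082) (nat_lit 1)
(Net.cons (nat_lit 0x901002080108092004a000108202080941280104008) (nat_lit 1)
(Net.cons (nat_lit 0x18a204410060803044084710c008600c200a218638c6) (nat_lit 3)
(Net.cons (nat_lit 0x320380b01101a0780c80b0360540300a0180040081a) (nat_lit 6)
(Net.cons (nat_lit 0xa340039c001464005b200075400124001ddc002e0) (nat_lit 11)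
(Net.cons (nat_lit 0x2b02000003aa50a000002af630000001d0518) (nat_lit 22)
(Net.cons (nat_lit 0x69ac953adce00000000000a15cc0d2980) (nat_lit 44)
(Net.cons (nat_lit 0x88a561de324572f9718480) (nat_lit 88)
Net.nil)))))))))))))))

noncomputable def n1 : Net :=
(Net.cons (nat_lit 0x2bb46d90124d5e03845114) (nat_lit 88)
(Net.cons (nat_lit 0x4476239a62000000000000bf8bda7c114) (nat_lit 44)
(Net.cons (nat_lit 0x3923e40000032251c000001d0ffa00000310300) (nat_lit 22)
(Net.cons (nat_lit 0x72000582001640005a8001d10003900009980016e) (nat_lit 11)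
(Net.cons (nat_lit 0x16078000020240000000d0340780e0080300000300b) (nat_lit 6)
(Net.cons (nat_lit 0x8410020000100200200860080182000400000820080) (nat_lit 3)
(Net.cons (nat_lit 0x9010420040000020048010800202000100010024000) (nat_lit 1)
(Net.cons (nat_lit 0x12424840080124240490921240404009212420049092) (nat_lit 1)
(Net.cons (nat_lit 0x4829202484800002104a014900010024840090424200) (nat_lit 1)
(Net.cons (nat_lit 0x80108420c41823002288608421c2000300001c20081) (nat_lit 3)
(Net.cons (nat_lit 0x3c02c000020240080000d01604c0801803e0080b80b) (nat_lit 6)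
(Net.cons (nat_lit 0x18dc006c2001f40007b8001284003380009f80016e) (nat_lit 11)
(Net.cons (nat_lit 0x3923e40000032251c0000010f81200000310300) (nat_lit 22)
(Net.cons (nat_lit 0x4476239a62100000000000bd8bfe7c114) (nat_lit 44)
(Net.cons (nat_lit 0x2bb46d90124d5e03845114) (nat_lit 88)
Net.nil)))))))))))))))

noncomputable def n2 : Net :=
(Net.cons (nat_lit 0xbfbf7a4b1794edc4840342) (nat_lit 88)
(Net.cons (nat_lit 0x223dd0bb83600000000000323e3940920) (nat_lit 44)
(Net.cons (nat_lit 0x2710c4000002876c20000017b600000002c2820) (nat_lit 22)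
(Net.cons (nat_lit 0x2200019600063000158001f6800624000df0004c0) (nat_lit 11)
(Net.cons (nat_lit 0x1a00c070050080080c0130300400c0020000640a01d) (nat_lit 6)
(Net.cons (nat_lit 0x81102304610c210620400803084204000000800000) (nat_lit 3)
(Net.cons (nat_lit 0x212020001002120208480800040080100002000809) (nat_lit 1)
(Net.cons (nat_lit 0x12424848082104240410901242480108210004009012) (nat_lit 1)
(Net.cons (nat_lit 0x21052084049292124a0801080424a0901002400a09) (nat_lit 1)
(Net.cons (nat_lit 0x18c30c210810883084308600e21c4204000830860007) (nat_lit 3)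
(Net.cons (nat_lit 0x3600c0701a0340640200601c0140201a0020740a01d) (nat_lit 6)
(Net.cons (nat_lit 0x22000036000328007dc000094000fc000df0004c0) (nat_lit 11)
(Net.cons (nat_lit 0x3710c40000016813d0000017b600000002c2820) (nat_lit 22)
(Net.cons (nat_lit 0x223dd0bb83600000000000327e3940920) (nat_lit 44)
(Net.cons (nat_lit 0xbfbf7a4b1794edc4840342) (nat_lit 88)
Net.nil)))))))))))))))

noncomputable def n3 : Net :=
(Net.cons (nat_lit 0xa7edb66ba53d7839476310) (nat_lit 88)
(Net.cons (nat_lit 0xe0ea1052ff4000000000007e4d4f27058) (nat_lit 44)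
(Net.cons (nat_lit 0xe18e600000185a480000017613400000341940) (nat_lit 22)
(Net.cons (nat_lit 0x1660004c8000e00000000006a00062600041000124) (nat_lit 11)
(Net.cons (nat_lit 0x1201800018000040010100100000000001802801003) (nat_lit 6)
(Net.cons (nat_lit 0x10830020080008310620400001004300018000002080) (nat_lit 3)
(Net.cons (nat_lit 0x20001002104000410801000080001212420001) (nat_lit 1)
(Net.cons (nat_lit 0x424040092124248480821002480900012424841092) (nat_lit 1)
(Net.cons (nat_lit 0x40080020001402904200094920042400041210420801) (nat_lit 1)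
(Net.cons (nat_lit 0x10a300630c0008310228c000e004408c718e21443082) (nat_lit 3)
(Net.cons (nat_lit 0x1a0380981a0000400a01201003c0001b01802805003) (nat_lit 6)
(Net.cons (nat_lit 0x1664004c8000e8c003f20006a00072600049400194) (nat_lit 11)
(Net.cons (nat_lit 0xe18e600000185a480000017613400000341178) (nat_lit 22)
(Net.cons (nat_lit 0xe0ea5052ffc000000000007e4f4f27258) (nat_lit 44)
(Net.cons (nat_lit 0xa7edb66ba53d7839476310) (nat_lit 88)
Net.nil)))))))))))))))

noncomputable def n4 : Net :=
(Net.cons (nat_lit 0x1fa5ecb7ee2fe3187d5060) (nat_lit 88)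
(Net.cons (nat_lit 0xaf15c84aa8800000000000a64802793b0) (nat_lit 44)
(Net.cons (nat_lit 0x2181a0000002599f400000175c620000038ac66) (nat_lit 22)
(Net.cons (nat_lit 0x198005a0000c400027600161000440000c0000368) (nat_lit 11)
(Net.cons (nat_lit 0x806c0400903805c0f00f00c0480a01003e0040d800) (nat_lit 6)
(Net.cons (nat_lit 0x8400040004000008020c008800021000108200210c0) (nat_lit 3)
(Net.cons (nat_lit 0x9000404001080120208000821242404100010420800) (nat_lit 1)
(Net.cons (nat_lit 0x12404849092104240410921042484909210424849080) (nat_lit 1)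
(Net.cons (nat_lit 0x8292020a084900000084941292424a0849002500048) (nat_lit 1)
(Net.cons (nat_lit 0xa1186300700e30c6200118000c6100610831461886) (nat_lit 3)
(Net.cons (nat_lit 0x18040080090300540f0170120380101401e0140f804) (nat_lit 6)
(Net.cons (nat_lit 0x588004700003b800368001f60000c300081400436) (nat_lit 11)
(Net.cons (nat_lit 0x22e0f0000003779310000039e8cb00000382d7a) (nat_lit 22)
(Net.cons (nat_lit 0x9013e89839c00000000000a4f40863fb0) (nat_lit 44)
(Net.cons (nat_lit 0x5725fdbd2a6de259007d60) (nat_lit 88)
Net.nil)))))))))))))))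

noncomputable def n5 : Net :=
(Net.cons (nat_lit 0xf7e92452899d778ac9490c) (nat_lit 88)
(Net.cons (nat_lit 0xa549a4318f800000000000372c1c9be70) (nat_lit 44)
(Net.cons (nat_lit 0xfc094000000ad802000001cdc54000000440dc) (nat_lit 22)
(Net.cons (nat_lit 0x100004a40013800017a001a700009e000ca000440) (nat_lit 11)
(Net.cons (nat_lit 0x300040700802a0280e8110000200000800200804810) (nat_lit 6)
(Net.cons (nat_lit 0x18421801080108200220840002100208008811800002) (nat_lit 3)
(Net.cons (nat_lit 0x2020800000100208400120202400008010404000) (nat_lit 1)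
(Net.cons (nat_lit 0x12024049080104248410901242404900012020809010) (nat_lit 1)
(Net.cons (nat_lit 0x41010000a004909002400001290420a0041012400a48) (nat_lit 1)
(Net.cons (nat_lit 0x18e3086208610c00c638020003140188608400863806) (nat_lit 3)
(Net.cons (nat_lit 0x804c0880900c0340700102005c0000901605404810) (nat_lit 6)
(Net.cons (nat_lit 0x155000404000478004c8001a700009e00049000540) (nat_lit 11)
(Net.cons (nat_lit 0x1e38300000037d1c1000001cdc54000001160fa) (nat_lit 22)
(Net.cons (nat_lit 0xa741a031cd8000000000003f2c1c9be70) (nat_lit 44)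
(Net.cons (nat_lit 0xe1e52c43cf9d7388cd0982) (nat_lit 88)
Net.nil)))))))))))))))

noncomputable def n6 : Net :=
(Net.cons (nat_lit 0x6633275d1315dd464aa488) (nat_lit 88)
(Net.cons (nat_lit 0x1eed64ad58800000000000c8ec707a1dc) (nat_lit 44)
(Net.cons (nat_lit 0x2702d400000123112000001f889800000184298) (nat_lit 22)
(Net.cons (nat_lit 0x400005900008f800400001db0001ea00049800604) (nat_lit 11)
(Net.cons (nat_lit 0xe0780100d0200480c8140220740101000a0680181c) (nat_lit 6)
(Net.cons (nat_lit 0x42084004410001002006000010210c0008008600c0) (nat_lit 3)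
(Net.cons (nat_lit 0x202000041010000208010021000400000200024040) (nat_lit 1)
(Net.cons (nat_lit 0x12404041092124040410020242404908000420849080) (nat_lit 1)
(Net.cons (nat_lit 0x40210020001492825200004109050020908280404a40) (nat_lit 1)
(Net.cons (nat_lit 0x18221c028011062040380000c00040841002008408c3) (nat_lit 3)
(Net.cons (nat_lit 0x180380a0060220380e0160280340e80302406403814) (nat_lit 6)
(Net.cons (nat_lit 0x1b80004600008fc00521001930001e2000704004f9) (nat_lit 11)
(Net.cons (nat_lit 0x2efe4c0000029ccb90000037d0a000000150ef9) (nat_lit 22)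
(Net.cons (nat_lit 0x5eef500d53600000000000a899616a9dc) (nat_lit 44)
(Net.cons (nat_lit 0x6633275d1315dd464aa488) (nat_lit 88)
Net.nil)))))))))))))))

noncomputable def T : List Net := [n0, n1, n2, n3, n4, n5, n6]

theorem ok : TOK 176 T := TOK_of_ok (by decide +kernel)

def E : List (List Nat × List Nat) :=
  []

theorem sat : Sat (sig T) R :=
  sat_of_relsP ok (by norm_num) (show relsP (nat_lit 176) (nat_lit 8) (nat_lit 0) (nat_lit 8) T R = true by decide +kernel)

theorem eqs : ∀ e ∈ E, ev (sig T) e.1 = ev (sig T) e.2 := eqs_nil _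

def lowW1 : List (List Nat) := [[0],
   [1],
   [2],
   [3],
   [4],
   [5]]

def lowW2 : List (List Nat) := [[0],
   [1],
   [2],
   [3],
   [4]]

def lowW3 : List (List Nat) := [[0],
   [1],
   [2],
   [3]]

def lowW4 : List (List Nat) := [[0],
   [1],
   [2]]

def lowW5 : List (List Nat) := [[0],
   [1]]

def lowW6 : List (List Nat) := [[0]]

theorem low_6 : 2 ≤ Nat.card (genW (sig T) lowW6) :=
  chain_step (W' := []) (b := 53) (n := 2) (m := 1) ok (le_of_subOK eqs (show subOK lowW6 [] E = true by decide +kernel)) (by decide +kernel)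
    (le_ncard_of_orbGe ok (by norm_num) (show orbGe (nat_lit 176) (nat_lit 8) T lowW6 [0] (nat_lit 53) (nat_lit 2) = true by decide +kernel))
    (chain_base ok [])

theorem low_5 : 6 ≤ Nat.card (genW (sig T) lowW5) :=
  chain_step (W' := lowW6) (b := 153) (n := 3) (m := 2) ok (le_of_subOK eqs (show subOK lowW5 lowW6 E = true by decide +kernel)) (by decide +kernel)
    (le_ncard_of_orbGe ok (by norm_num) (show orbGe (nat_lit 176) (nat_lit 8) T lowW5 [1, 0] (nat_lit 153) (nat_lit 3) = true by decide +kernel))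
    low_6

theorem low_4 : 24 ≤ Nat.card (genW (sig T) lowW4) :=
  chain_step (W' := lowW5) (b := 9) (n := 4) (m := 6) ok (le_of_subOK eqs (show subOK lowW4 lowW5 E = true by decide +kernel)) (by decide +kernel)
    (le_ncard_of_orbGe ok (by norm_num) (show orbGe (nat_lit 176) (nat_lit 8) T lowW4 [2, 1, 0] (nat_lit 9) (nat_lit 4) = true by decide +kernel))
    low_5

theorem low_3 : 120 ≤ Nat.card (genW (sig T) lowW3) :=
  chain_step (W' := lowW4) (b := 21) (n := 5) (m := 24) ok (le_of_subOK eqs (show subOK lowW3 lowW4 E = true by decide +kernel)) (by decide +kernel)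
    (le_ncard_of_orbGe ok (by norm_num) (show orbGe (nat_lit 176) (nat_lit 8) T lowW3 [3, 0, 1, 2] (nat_lit 21) (nat_lit 5) = true by decide +kernel))
    low_4

theorem low_2 : 1440 ≤ Nat.card (genW (sig T) lowW2) :=
  chain_step (W' := lowW3) (b := 2) (n := 12) (m := 120) ok (le_of_subOK eqs (show subOK lowW2 lowW3 E = true by decide +kernel)) (by decide +kernel)
    (le_ncard_of_orbGe ok (by norm_num) (show orbGe (nat_lit 176) (nat_lit 8) T lowW2 [4, 0, 1, 4, 0, 3] (nat_lit 2) (nat_lit 12) = true by decide +kernel))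
    low_3

theorem low_1 : 252000 ≤ Nat.card (genW (sig T) lowW1) :=
  chain_step (W' := lowW2) (b := 1) (n := 175) (m := 1440) ok (le_of_subOK eqs (show subOK lowW1 lowW2 E = true by decide +kernel)) (by decide +kernel)
    (le_ncard_of_ivl (a := 1) ok (by norm_num) (show Nat.beq (grow T lowW1 [5, 4, 0, 1, 5, 4, 0, 3, 4, 5, 0, 4, 0, 1, 0] (pt (nat_lit 1))) (ivl (nat_lit 1) (nat_lit 175)) = true by decide +kernel))
    low_2

theorem low : 44352000 ≤ Nat.card (genW (sig T) (letters 7)) :=
  chain_step (W' := lowW1) (b := 0) (n := 176) (m := 252000) ok (le_of_subOK eqs (show subOK (letters 7) lowW1 E = true by decide +kernel)) (by decide +kernel)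
    (le_ncard_of_ivl (a := 0) ok (by norm_num) (show Nat.beq (grow T (letters 7) [6, 0, 4, 1, 5, 6, 4, 0, 1, 3, 4, 6, 0] (pt (nat_lit 0))) (ivl (nat_lit 0) (nat_lit 176)) = true by decide +kernel))
    low_1


end Cfsg.Agent.SchurG.HS
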