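import Cfsg.Agent.SchurG.HS.Up
import Cfsg.Agent.SchurG.HS.Nets

set_option autoImplicit false
set_option maxRecDepth 100000

namespace Cfsg.Agent.SchurG.HS
open Cfsg.Agent.Comp

def W0 : List (List Nat) := [[0],
[1],
[2],
[3],
[4],
[5]]

noncomputable def phi : G →* Equiv.Perm ℕ := (pres.rep ok sat).choose

theorem rep : Rep s 7 176 T phi := (pres.rep ok sat).choose_spec

theorem trans : ∀ i < 176, ∃ g, phi g 0 = i :=
  rep.trans (sch := [6, 0, 4, 1, 5, 6, 4, 0, 1, 3, 4, 6, 0]) (by decide +kernel)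

theorem stab : (genW s W0).index = 176 ∧ ∀ g, g ∈ genW s W0 ↔ phi g 0 = 0 :=
  rep.stab_eq (by decide +kernel) (by norm_num) trans (by decide +kernel) (Top.index _ s pres.sat)

theorem orb1 : MulAction.orbit (genW (sig T) W0) 1 = Set.Ico 1 (1 + 175) ∧
    (MulAction.orbit (genW (sig T) W0) 1).ncard = 175 :=
  orbit_ivl (sch := [5, 4, 0, 1, 5, 4, 0, 3, 4, 5, 0, 4, 0, 1, 0]) ok (by norm_num) (by norm_num) (by decide +kernel) (by decide +kernel)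

namespace Col

noncomputable def t0 : Tr := (Tr.leaf (nat_lit 0xffffffffffffffffffffffff000ffffffffffffffffffffffff8d20d5fffffffffffffff09703c892ffffffffffffffffffffffff81205803cfff03dfffffffff0128b11d1fff011fffffffffffffff851150ffffffffffff011ffffff8310b007cfff07dffffff0110724d01b0010137031ffffffffffff4b01d0fff010fffffffffffffff490194031135010117fff0f70374701b11341b41b0010fffffffff450131ffffffffffff010fff0394300d101dfff01cffffff010fff4102101d11f11d01d01700f0010000fff1d01f0250270290250230))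

noncomputable def T : Tr := t0

def RT : List (List (List Nat)) := [
  [[nat_lit 6, nat_lit 4],
   [nat_lit 4, nat_lit 6],
   [nat_lit 0],
   [nat_lit 2, nat_lit 0, nat_lit 2]],
  [[nat_lit 0, nat_lit 6, nat_lit 0, nat_lit 1, nat_lit 0, nat_lit 6, nat_lit 0],
   [nat_lit 1],
   [nat_lit 0, nat_lit 5, nat_lit 0, nat_lit 5, nat_lit 0]],
  [[nat_lit 2],
   [nat_lit 4, nat_lit 0, nat_lit 1, nat_lit 3, nat_lit 0, nat_lit 4, nat_lit 0]],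
  [[nat_lit 4, nat_lit 0, nat_lit 4, nat_lit 1, nat_lit 4, nat_lit 0, nat_lit 4],
   [nat_lit 3]],
  [[nat_lit 6, nat_lit 0],
   [nat_lit 0, nat_lit 6],
   [nat_lit 4]],
  [[nat_lit 6, nat_lit 4, nat_lit 3, nat_lit 1, nat_lit 4, nat_lit 0, nat_lit 6, nat_lit 1],
   [nat_lit 5],
   [nat_lit 1, nat_lit 6, nat_lit 4, nat_lit 3, nat_lit 1, nat_lit 4, nat_lit 0, nat_lit 6]],
  [[nat_lit 0, nat_lit 4],
   [nat_lit 4, nat_lit 0],
   [nat_lit 6],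
   [nat_lit 3, nat_lit 1, nat_lit 6, nat_lit 3, nat_lit 1, nat_lit 6, nat_lit 1, nat_lit 3]],
  [[nat_lit 6, nat_lit 0, nat_lit 6, nat_lit 1, nat_lit 6, nat_lit 0, nat_lit 6, nat_lit 1],
   [nat_lit 6, nat_lit 0, nat_lit 1, nat_lit 0, nat_lit 6, nat_lit 1, nat_lit 0, nat_lit 1],
   [nat_lit 4, nat_lit 4],
   [nat_lit 0, nat_lit 0],
   [nat_lit 0, nat_lit 2, nat_lit 1, nat_lit 0, nat_lit 4, nat_lit 3, nat_lit 0, nat_lit 1, nat_lit 4, nat_lit 1],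
   [nat_lit 1, nat_lit 3, nat_lit 4, nat_lit 2, nat_lit 4, nat_lit 6, nat_lit 1, nat_lit 4, nat_lit 6, nat_lit 2, nat_lit 6, nat_lit 4, nat_lit 3, nat_lit 6],
   [nat_lit 3, nat_lit 3],
   [nat_lit 5, nat_lit 5],
   [nat_lit 6, nat_lit 6],
   [nat_lit 5, nat_lit 0, nat_lit 3, nat_lit 2, nat_lit 4, nat_lit 5, nat_lit 3, nat_lit 4, nat_lit 6, nat_lit 4, nat_lit 3, nat_lit 5, nat_lit 4, nat_lit 6, nat_lit 0, nat_lit 6, nat_lit 3, nat_lit 4, nat_lit 6, nat_lit 4]]]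

def HT : List (List (Nat × Nat × Nat)) := [
  [(1, 0, 0), (0, 0, 1), (0, 1, 0), (0, 9, 1)],
  [(0, 32, 2), (0, 2, 0), (0, 22, 2)],
  [(0, 3, 0), (0, 14, 7)],
  [(0, 16, 7), (0, 4, 0)],
  [(0, 0, 2), (1, 0, 2), (0, 5, 0)],
  [(1, 45, 3), (0, 6, 0), (1, 35, 2)],
  [(0, 0, 0), (1, 0, 1), (0, 7, 0), (1, 38, 4)],
  [(0, 40, 3), (0, 36, 7), (0, 5, 0), (0, 1, 0), (1, 19, 6), (0, 44, 0), (0, 4, 0), (0, 6, 0), (0, 7, 0), (0, 50, 19)]]

def R : List (List Nat) :=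
  [[0, 4, 6],
   [0, 0],
   [1, 1],
   [2, 2],
   [3, 3],
   [4, 4],
   [5, 5],
   [6, 6],
   [0, 1, 0, 1, 0, 1],
   [0, 2, 0, 2],
   [1, 2, 1, 2, 1, 2],
   [1, 3, 1, 3],
   [2, 3, 2, 3],
   [0, 3, 0, 3, 0, 3],
   [0, 1, 3, 0, 4, 0, 2, 4],
   [0, 4, 0, 4, 0, 4, 0, 4],
   [0, 4, 1, 4, 0, 4, 3, 4],
   [1, 4, 2, 4, 1, 4, 2, 4],
   [3, 4, 3, 4, 3, 4, 3, 4],
   [0, 1, 2, 0, 1, 4, 1, 0, 3, 4],
   [1, 5, 1, 5],
   [3, 5, 3, 5],
   [0, 1, 0, 5, 0, 5],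
   [1, 2, 1, 5, 2, 5],
   [4, 5, 4, 5, 4, 5, 4, 5, 4, 5, 4, 5],
   [1, 2, 4, 2, 4, 2, 1, 4, 3, 4],
   [0, 4, 5, 1, 4, 2, 4, 5, 4, 0, 4, 5, 4],
   [1, 2, 1, 3, 5, 2, 5, 3],
   [0, 1, 0, 2, 1, 4, 5, 0, 5, 3, 1, 4],
   [1, 4, 1, 4, 5, 4, 1, 5, 4, 1, 5, 4, 5, 1, 4, 5, 4],
   [2, 6, 2, 6],
   [5, 6, 5, 6, 5, 6],
   [0, 1, 0, 6, 0, 1, 0, 6],
   [1, 6, 3, 6, 1, 6, 3, 6],
   [2, 4, 3, 4, 2, 4, 3, 4],
   [0, 4, 1, 3, 4, 6, 1, 5, 6],
   [0, 1, 0, 6, 1, 0, 1, 6],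
   [0, 1, 0, 6, 5, 0, 5, 6],
   [1, 3, 6, 1, 3, 6, 3, 1, 6],
   [0, 1, 2, 5, 4, 1, 0, 3, 4, 5],
   [0, 6, 1, 6, 0, 6, 1, 6],
   [0, 3, 0, 6, 4, 6, 0, 3, 0, 6, 4, 6],
   [1, 3, 4, 2, 3, 4, 1, 4, 3, 4],
   [2, 4, 3, 4, 6, 4, 3, 4, 6, 4, 3, 4, 6],
   [1, 3, 4, 2, 4, 6, 1, 4, 6, 2, 6, 4, 3, 6],
   [0, 4, 1, 3, 4, 6, 5, 1, 6],
   [0, 1, 4, 0, 4, 1, 0, 4, 2, 4],
   [4, 5, 4, 6, 4, 5, 4, 6, 4, 5, 4, 6, 4, 5, 4, 6],
   [0, 3, 4, 5, 6, 1, 4, 5, 6, 4, 1, 6, 0, 5, 4, 6, 0, 5],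
   [0, 3, 6, 1, 6, 3, 0, 6, 1, 6],
   [0, 3, 2, 4, 5, 3, 4, 6, 4, 3, 5, 4, 6, 0, 6, 3, 4, 6, 4, 5]]

def W : List (List Nat) := []

noncomputable def P : Par := ⟨T, (nat_lit 4), (nat_lit 15), (nat_lit 108), (nat_lit 12), (nat_lit 4095), (nat_lit 5), (nat_lit 31), (nat_lit 7), (nat_lit 17), (nat_lit 32), (nat_lit 0x8398a418820), RT⟩

noncomputable def J0 : List Nat := [
  nat_lit 0x470022c50c8cb60043897c008b1061258010e2e60020c4a60043894c008b1358010e294c00cb108c11808c1182311800527106104144146338800cf1cd180033c41841041063158ad7a3000149882083095c008b14ae00638d20ac568c0041e257000e31bc0010e2770021c41bd18ad7a3000e18c35a3158ac001058c60008712915a317a317a315800e5c410410418414be0023e2082083180020c4ad18ac56002031846b001b626f0022c610413780116209bc008b10c4563b001038820c208208233800cf104104106105298008f8c20820982588ad7895d80080c4104104104104940041895a3062001c3104104106b38800cb1041041041041041041041041]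

theorem c0 : chk T (nat_lit 4) (nat_lit 15) (nat_lit 108) (nat_lit 12) (nat_lit 4095) (nat_lit 5) (nat_lit 31) (nat_lit 7) (nat_lit 17) (nat_lit 32) (nat_lit 0x8398a418820) (nat_lit 4) (nat_lit 15) RT (nat_lit 16) J0 (nat_lit 16) = true := by
  decide +kernel

theorem r0 : P.RowsOK 16 32 := chk_sound P _ _ _ J0 _ _ (by decide +kernel) c0

theorem index.{u} : IndexLe.{u} 7 R W 1 :=
  indexLe_of_cert P HT (by decide +kernel)
    (show P.RowsOK 16 32 from r0)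

end Col

theorem card : Finite G ∧ Nat.card G = 44352000 ∧ Function.Injective phi :=
  rep.card_eq up low

def primT : List (List Nat × List Nat) :=
  [([6], [0, 1, 5, 2, 0, 6, 5, 0, 4, 1, 5, 6, 0])]

theorem prim_0 : Nat.beq (grow T ([6] :: W0) [0, 1, 5, 2, 0, 6, 5, 0, 4, 1, 5, 6, 0] (pt (nat_lit 0))) (ivl (nat_lit 0) (nat_lit 176)) = true := by
  decide +kernel

theorem prim : Prim (gen (sig T) 7) 0 :=
  prim_of_cert (W := W0) (ts := primT) (sch := [0, 4, 1, 5, 4, 2, 5, 3, 4, 0, 1, 5, 0]) ok (ok.genW_le _) (by norm_num) (genW_le_gen (by decide +kernel)) (by decide +kernel)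
    (fun t ht => ev_mem fun x hx => letter_mem_gen ((by decide +kernel : ∀ t ∈ primT, ∀ x ∈ t.1, x < 7) t ht x hx)) (by decide +kernel)
    (by simp only [primT, List.forall_mem_cons]; exact ⟨prim_0, by simp⟩)

def XP : List (List Nat) := [[0, 4, 6, 0, 4, 6, 0, 4, 6, 0, 4, 6, 0, 4, 6, 0, 4, 6, 0, 4, 6, 0, 4, 6, 0, 4, 6, 0, 4, 6, 0, 4, 6]]

theorem satX : Sat (sig T) XP :=
  sat_of_relsP ok (by norm_num) (show relsP (nat_lit 176) (nat_lit 8) (nat_lit 0) (nat_lit 8) T XP = true by decide +kernel)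

theorem simple : IsSimpleGroup G :=
  rep.simple (m := 252000) (p := 11) (X := [[0, 4, 6]]) card.2.2 (by norm_num) (by norm_num) trans prim card.2.1 (by norm_num) pres.sat
    Col.index (by decide +kernel) (by decide +kernel) (satX.mono (by decide +kernel))


end Cfsg.Agent.SchurG.HS
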