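import Cfsg.Agent.Comp.TC
import Cfsg.Agent.SchurG.HS.Pres

set_option autoImplicit false
set_option maxRecDepth 100000

namespace Cfsg.Agent.SchurG.HS.Top
open Cfsg.Agent.Comp

noncomputable def t0 : Tr := (Tr.node (nat_lit 4) (Tr.node (nat_lit 1) (Tr.node (nat_lit 0) (Tr.leaf (nat_lit 0x8616ffff00160136013501340c24013301328516ffff0131001601300523132104260e218615ffff00150825081d061d051d021d081d6614ffff0014012f012e012d0f22012c012b6514ffff012a0014012903260d26032301286314ffff0127012601250014102002160e206114ffff01240123081503160a1600140b186413ffff0122012100130f200d140f200c196213ffff05170417012006170013031703176412ffff011f011e001204190b19031a0a146312ffff011d0515071900120415031507154411ffff011c011b0011011a0e18011909164111ffff04130211011805130117001102134011ffff05120412011601150312021200112610ffff00100313011406110211011301120000ffff0111011001100110011001100110))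
(Tr.leaf (nat_lit 0x851cffff0353001c0161035a01600a240d45841cffff015f235e001c015e015d152e015c831cffff015b015a0159001c103b0356032d811cffff01580a24015701560155001c0d48801cffff464d0e44172b022b103a0154001c861bffff001b015301520f390e4301510150841bffff014f014e001b014d144b014c014b801bffff014a0f200149102110231121001b861affff001a014801470146133701450144851affff0143001a0142021b0c1b031e0f23841affff0225091d001a07250325092504258619ffff00190b2c014101400b1f0b2f013f8519ffff013e0019013d041e1128021b10268618ffff00180c33013c013b0e1c0c36013a8518ffff0139001801381128121e12280d1e8417ffff0137102800171018111a10180d1a)))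
(Tr.node (nat_lit 2) (Tr.leaf (nat_lit 0xa024ffff018710540186053f0c320c440024a623ffff00230c581154134a124a01850184a423ffff01834778002301820181476c0180a422ffff017f017e0022017d106e143c1956a322ffff017c0d6b017b00220f2d215c113ba022ffff017a113a243a113a0f2b0d320022a621ffff00210d6c01790e2a133101780177a421ffff01764d5900210175017401730172a620ffff002016451b6f2461122717481554a51fffff0368001f1f60205c01710b220f33a41fffff21700170001f1d551a56016f016ea31fffff016d215c2245001f0d40036b0e34a11fffff016c0b220e51016b016a001f1036a01fffff01691232244a0e320d3f0e3a001fa61effff001e016801671543143901660165a41effff384e0b63001e0164136201630162))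
(Tr.node (nat_lit 3) (Tr.leaf (nat_lit 0xa629ffff00293e4101973f693c4c3d8a3d93a529ffff37300029475a468b474703954841a329ffff452b448b01960029487a43871391a129ffff3a4b01953d8842873b4f0029128aa029ffff394c4a890194497a132901930029a628ffff002847492332143e113e03790192a428ffff4945464a002847580f7201910f74a527ffff477400271a66038f4a7616370c2ca427ffff4962408a00271d50484e1c410f89a327ffff0190018f224600272561038e0e46a127ffff484915372334018e275700270c2fa027ffff02420f2b018d0d4412540b3f0027a626ffff00264674208514310d2a018c018ba426ffff034442500026018a128042691281a424ffff3e633d4f0024156501891d47494ea324ffff01880c561a4000240c340c5a0440))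
(Tr.leaf (nat_lit 0xa62effff002e4f9f497a01a92d9401a801a7a32effff01a6222e1784002e03a4165e1d6ba22effff2e9401a51c6b01a4002e01a31b6fa02effff235c2234225c1f361a6f203b002ea62dffff002d01a23d914d83117c03883c96a52dffff0d8e002d464e022f19980b401b7ea42dffff1f594e38002d01a11d5101a0217ba62cffff002c0b3e019f4849039c019e0c6ca42cffff49722b57002c019d26454b762560a32cffff056b0b401f56002c1b35022d183ca22cffff019c0f6a21771c35002c12714b76a12bffff14800f3f123e03541144002b1437a52affff022f002a019b0d6c497345820d68a42affff019a0199002a20671c7e1f8d0198a12affff175145820d3310781e59002a0d66a02affff188b414221501e470f8b0c65002a)))))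
(Tr.node (nat_lit 7) (Tr.node (nat_lit 5) (Tr.leaf (nat_lit 0xc135ffff246f1f981a371e71195c00351a5dc035ffff29ab208d188f1db00f3c1e990035c634ffff0034126d4c6940970e88049001b2c633ffff00330c394e7c0c5303b1463d0b58c333ffff04560c3b1b5d0033207002341c5ec233ffff01b1105501b01f7000330d601171c632ffff003211654d6d404f0e8741424182c531ffff023600314ca64574487544810c53c431ffff01af01ae00311f5201ad2286239dc131ffff197944811948168c207b00310c51c031ffff166512691965164115770b500031c330ffff3f9519ac36a8003016aa17ac1763c130ffff3f410a30379018ac01ac00301864c030ffff48471caa01ab15aa123001aa0030a42fffff27a2268e002f23372446268f2061a22fffff4c7313711e361898002f0e6a2457))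
(Tr.node (nat_lit 6) (Tr.leaf (nat_lit 0xc63cffff003c27a8559c2ea62cab4f9f2abbc53cffff01bb003c2aae21ad1d52157e1a5ac33cffff2ba722ad1692003c1eb0157d188fc63bffff003b0e884d6c01ba105b0fa201b9c43bffff22b821b1003b14a01f6613a12059c63affff003a11774a5f484b474d4b80109ec439ffff186646910039158501b8024a188cc139ffff198c463d51b70f511fa100390e85c039ffff1377127a2055148914650d840039c638ffff00384f764ca401b749484a574c55c338ffff48714da101b6003847684cb11273c238ffff4848474301b54668003801b40e49c138ffff4b604ca037a24bb14a5300381375c038ffff4a5701b32f9a4a9c0e494a9c0038c236ffff49751260178b1d6f00361155106ac535ffff20350035238c1e6a1f6b219822a4))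
(Tr.leaf (nat_lit 0xc546ffff148f0046196e02484bb72561177dc345ffff0c5a256102890045289d024629adc444ffff27a31f6e00441d861f8d1e5226a5c143ffff187845b4227015661fa000431779c043ffff1750434d1671454e0e5016920043c342ffff3e933f473bb9004213933c4f114cc241ffff41ac494b038e1377004116bf0e47c640ffff00400d7c3e4c4cbe0d6d025b4a9fc63fffff003f179242be414c0d69424d42b4c43fffff2c8622b0003f1e8d1f86216729aec13effff14850d9e1f4314794db3003e0d78c03effff15924c80165e01bf13920c77003ec63dffff003d429b53ac4c5b4fba01be54bac33dffff01bd445137b2003d15b444534069c23dffff50ba436601bc14b4003d43681142c03dffff13544d8436af119311424a7a003d))))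
(Tr.node (nat_lit 8) (Tr.leaf (nat_lit 0xc458ffff51b24e5f00584db64cb24e7f4988c158ffff41970c8546bd4791489100580f7ac357ffff28982a9d249d0057278e4cb72267c655ffff005523b8567f4972025849720db1c453ffff44b4438300534fa245bd4fba4b97c652ffff0052289a2e7234b51fbb35b52dabc552ffff2799005228b821ae24991d6e26a3c052ffff299d1e6f23981760185a20700052c44fffff429e0297004f3f6d4bbe52bd4c9bc44dffff21b63da7004d3cb93ab93bbb3b5bc54cffff3e64004c46a0439246bf024e4cbfc44bffff2d5d35af004b33af2c5f13bc10b5c14bffff3f8a4bbf3ca91080128a004b3c4fc04affff14841687157d44951284158b004ac149ffff41be45793c5b489e499e0049124dc646ffff00461390366351bd12a2036d39b6))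
(Tr.node (nat_lit 9) (Tr.leaf (nat_lit 0xe667ffff006734943580329431a933ab34bce567ffff29a500672b7e209923ae23b02886e267ffff30a9237d2ba5207e006723ad288ee263ffff40891a64528317630063166419aae462ffff2a6e04bc006215bc2b7f34af2c9ae162ffff47bf1b622ebb1462156400621aacc35fffff2fad3ab63b93005f32af2eb22fa6c15fffff25b9267f35642db238b6005f25a2c05fffff2a7d3c9633b432bb2eb524b9005fc65effff005e1eb24d682d7f30bc39b630a9c55dffff2aae005d2cad26a317a524a4258dc35dffff31bc25a34b76005d025e25a52170c15dffff268d24a44fb327a516a3005d2599c55bffff2661005b36734e9b11900e7c26a8c359ffff21a04c7518bf00591e78127b4eb3c159ffff20a14b734595137b1e8c005921b8))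
(Tr.leaf (nat_lit 0xe384ffff46aa4a9317a10084459515894b95e183ffff40914cba41874b884a97008347bde682ffff008247bd479e5090449b519748bee481ffff30a403ab008114ab2fa6149433afe67effff007e28b92daa31a71e9a3a96297fe37cffff4f814dbe54b1007c4e834e9b5383e07cffff24a829bb3a8a3b96399623a7007ce279ffff217b229c27994ab300794ab320a0e376ffff4cb750b7507800764a8f4b9d4bb0e475ffff209639a900754c9f37a838a63890e474ffff2eb013b50074339a2da7349a0f94e174ffff439b448c32a71381148200744187e572ffff4eb300724ea34bb84c854bb84da1e06dffff509f1da636822ca84b9f2da9006de66affff006a207b55ba4a73026c4b750c9ce46affff2fb52186006a1c6e1d7d22ae4cb7))))))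

noncomputable def T : Tr := t0

def RT : List (List (List Nat)) := [
  [[nat_lit 8],
   [nat_lit 1, nat_lit 6, nat_lit 0, nat_lit 1, nat_lit 0, nat_lit 6, nat_lit 1],
   [nat_lit 2, nat_lit 0, nat_lit 2],
   [nat_lit 3, nat_lit 0, nat_lit 3, nat_lit 0, nat_lit 3],
   [nat_lit 6, nat_lit 1, nat_lit 6, nat_lit 0, nat_lit 6, nat_lit 1, nat_lit 6],
   [nat_lit 4, nat_lit 3, nat_lit 4, nat_lit 0, nat_lit 4, nat_lit 1, nat_lit 4],
   [nat_lit 1, nat_lit 4, nat_lit 1, nat_lit 0, nat_lit 2, nat_lit 1, nat_lit 0, nat_lit 4, nat_lit 3],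
   [nat_lit 4, nat_lit 1, nat_lit 0, nat_lit 4, nat_lit 2, nat_lit 4, nat_lit 0, nat_lit 1, nat_lit 4],
   [nat_lit 5, nat_lit 0, nat_lit 1, nat_lit 0, nat_lit 5],
   [nat_lit 1, nat_lit 0, nat_lit 5, nat_lit 0, nat_lit 5],
   [nat_lit 1, nat_lit 0, nat_lit 1, nat_lit 0, nat_lit 1],
   [nat_lit 4, nat_lit 2, nat_lit 0, nat_lit 4, nat_lit 0, nat_lit 3, nat_lit 1],
   [nat_lit 2, nat_lit 4, nat_lit 0, nat_lit 1, nat_lit 3, nat_lit 0, nat_lit 4],
   [nat_lit 1, nat_lit 0, nat_lit 6, nat_lit 1, nat_lit 0, nat_lit 1, nat_lit 6],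
   [nat_lit 4, nat_lit 0, nat_lit 4, nat_lit 0, nat_lit 4, nat_lit 0, nat_lit 4],
   [nat_lit 1, nat_lit 4, nat_lit 5, nat_lit 2, nat_lit 1, nat_lit 0, nat_lit 5, nat_lit 4, nat_lit 3],
   [nat_lit 3, nat_lit 4, nat_lit 0, nat_lit 1, nat_lit 2, nat_lit 0, nat_lit 1, nat_lit 4, nat_lit 1],
   [nat_lit 2, nat_lit 1, nat_lit 0, nat_lit 4, nat_lit 3, nat_lit 0, nat_lit 1, nat_lit 4, nat_lit 1],
   [nat_lit 3, nat_lit 4, nat_lit 5, nat_lit 0, nat_lit 1, nat_lit 2, nat_lit 5, nat_lit 4, nat_lit 1],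
   [nat_lit 3, nat_lit 1, nat_lit 0, nat_lit 4, nat_lit 2, nat_lit 0, nat_lit 4],
   [nat_lit 5, nat_lit 0, nat_lit 5, nat_lit 0, nat_lit 1],
   [nat_lit 4, nat_lit 5, nat_lit 1, nat_lit 4, nat_lit 2, nat_lit 4, nat_lit 5, nat_lit 4, nat_lit 0, nat_lit 4, nat_lit 5, nat_lit 4],
   [nat_lit 4, nat_lit 1, nat_lit 4, nat_lit 0, nat_lit 4, nat_lit 3, nat_lit 4]],
  [[nat_lit 5, nat_lit 1, nat_lit 5],
   [nat_lit 3, nat_lit 1, nat_lit 3],
   [nat_lit 6, nat_lit 3, nat_lit 6, nat_lit 1, nat_lit 6, nat_lit 3, nat_lit 6],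
   [nat_lit 8],
   [nat_lit 0, nat_lit 6, nat_lit 1, nat_lit 0, nat_lit 1, nat_lit 6, nat_lit 0],
   [nat_lit 6, nat_lit 3, nat_lit 0, nat_lit 6, nat_lit 1, nat_lit 6, nat_lit 0, nat_lit 3, nat_lit 6],
   [nat_lit 2, nat_lit 1, nat_lit 2, nat_lit 1, nat_lit 2],
   [nat_lit 3, nat_lit 4, nat_lit 6, nat_lit 5, nat_lit 1, nat_lit 6, nat_lit 0, nat_lit 4],
   [nat_lit 6, nat_lit 0, nat_lit 4, nat_lit 1, nat_lit 3, nat_lit 4, nat_lit 6, nat_lit 5],
   [nat_lit 2, nat_lit 1, nat_lit 5, nat_lit 2, nat_lit 5],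
   [nat_lit 0, nat_lit 6, nat_lit 5, nat_lit 0, nat_lit 5, nat_lit 6, nat_lit 0],
   [nat_lit 0, nat_lit 6, nat_lit 0, nat_lit 1, nat_lit 0, nat_lit 6, nat_lit 0],
   [nat_lit 0, nat_lit 1, nat_lit 0, nat_lit 1, nat_lit 0],
   [nat_lit 4, nat_lit 0, nat_lit 4, nat_lit 3, nat_lit 4, nat_lit 0, nat_lit 4],
   [nat_lit 5, nat_lit 6, nat_lit 0, nat_lit 4, nat_lit 1, nat_lit 3, nat_lit 4, nat_lit 6],
   [nat_lit 3, nat_lit 4, nat_lit 6, nat_lit 1, nat_lit 5, nat_lit 6, nat_lit 0, nat_lit 4],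
   [nat_lit 4, nat_lit 3, nat_lit 2, nat_lit 4, nat_lit 3, nat_lit 1, nat_lit 4, nat_lit 3, nat_lit 4],
   [nat_lit 4, nat_lit 3, nat_lit 4, nat_lit 1, nat_lit 3, nat_lit 4, nat_lit 2, nat_lit 3, nat_lit 4],
   [nat_lit 4, nat_lit 2, nat_lit 4, nat_lit 1, nat_lit 4, nat_lit 2, nat_lit 4],
   [nat_lit 4, nat_lit 6, nat_lit 5, nat_lit 4, nat_lit 1, nat_lit 6, nat_lit 5, nat_lit 4, nat_lit 3, nat_lit 0, nat_lit 5, nat_lit 0, nat_lit 6, nat_lit 4, nat_lit 5, nat_lit 0, nat_lit 6],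
   [nat_lit 3, nat_lit 0, nat_lit 4, nat_lit 0, nat_lit 2, nat_lit 4, nat_lit 0],
   [nat_lit 5, nat_lit 2, nat_lit 5, nat_lit 1, nat_lit 2],
   [nat_lit 0, nat_lit 4, nat_lit 2, nat_lit 0, nat_lit 4, nat_lit 0, nat_lit 3],
   [nat_lit 0, nat_lit 5, nat_lit 0, nat_lit 5, nat_lit 0]],
  [[nat_lit 6, nat_lit 2, nat_lit 6],
   [nat_lit 3, nat_lit 2, nat_lit 3],
   [nat_lit 8],
   [nat_lit 0, nat_lit 2, nat_lit 0],
   [nat_lit 4, nat_lit 3, nat_lit 4, nat_lit 2, nat_lit 4, nat_lit 3, nat_lit 4],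
   [nat_lit 1, nat_lit 0, nat_lit 4, nat_lit 3, nat_lit 0, nat_lit 1, nat_lit 4, nat_lit 1, nat_lit 0],
   [nat_lit 5, nat_lit 1, nat_lit 2, nat_lit 1, nat_lit 5],
   [nat_lit 1, nat_lit 2, nat_lit 1, nat_lit 2, nat_lit 1],
   [nat_lit 0, nat_lit 4, nat_lit 0, nat_lit 3, nat_lit 1, nat_lit 0, nat_lit 4],
   [nat_lit 3, nat_lit 4, nat_lit 1, nat_lit 4, nat_lit 3, nat_lit 4, nat_lit 1, nat_lit 3, nat_lit 4],
   [nat_lit 4, nat_lit 3, nat_lit 1, nat_lit 4, nat_lit 3, nat_lit 4, nat_lit 1, nat_lit 4, nat_lit 3],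
   [nat_lit 1, nat_lit 5, nat_lit 2, nat_lit 5, nat_lit 1]],
  [[nat_lit 5, nat_lit 3, nat_lit 5],
   [nat_lit 8],
   [nat_lit 0, nat_lit 6, nat_lit 4, nat_lit 6, nat_lit 0, nat_lit 3, nat_lit 0, nat_lit 6, nat_lit 4, nat_lit 6, nat_lit 0],
   [nat_lit 1, nat_lit 3, nat_lit 1],
   [nat_lit 0, nat_lit 3, nat_lit 0, nat_lit 3, nat_lit 0],
   [nat_lit 6, nat_lit 1, nat_lit 6, nat_lit 3, nat_lit 6, nat_lit 1, nat_lit 6],
   [nat_lit 2, nat_lit 3, nat_lit 2],
   [nat_lit 4, nat_lit 3, nat_lit 4, nat_lit 3, nat_lit 4, nat_lit 3, nat_lit 4],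
   [nat_lit 1, nat_lit 6, nat_lit 3, nat_lit 1, nat_lit 6, nat_lit 1, nat_lit 3, nat_lit 6],
   [nat_lit 1, nat_lit 0, nat_lit 4, nat_lit 2, nat_lit 0, nat_lit 4, nat_lit 0],
   [nat_lit 4, nat_lit 2, nat_lit 4, nat_lit 3, nat_lit 4, nat_lit 2, nat_lit 4],
   [nat_lit 4, nat_lit 0, nat_lit 4, nat_lit 1, nat_lit 4, nat_lit 0, nat_lit 4],
   [nat_lit 4, nat_lit 6, nat_lit 1, nat_lit 5, nat_lit 6, nat_lit 0, nat_lit 4, nat_lit 1],
   [nat_lit 4, nat_lit 0, nat_lit 1, nat_lit 2, nat_lit 0, nat_lit 1, nat_lit 4, nat_lit 1, nat_lit 0],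
   [nat_lit 0, nat_lit 4, nat_lit 0, nat_lit 2, nat_lit 4, nat_lit 0, nat_lit 1],
   [nat_lit 0, nat_lit 6, nat_lit 1, nat_lit 6, nat_lit 0, nat_lit 3, nat_lit 6, nat_lit 1, nat_lit 6]],
  [[nat_lit 3, nat_lit 1, nat_lit 6, nat_lit 3, nat_lit 4, nat_lit 6, nat_lit 2, nat_lit 6, nat_lit 4, nat_lit 1, nat_lit 6, nat_lit 4, nat_lit 2],
   [nat_lit 8],
   [nat_lit 3, nat_lit 4, nat_lit 1, nat_lit 3, nat_lit 4, nat_lit 2, nat_lit 3, nat_lit 4, nat_lit 1],
   [nat_lit 6, nat_lit 1, nat_lit 5, nat_lit 6, nat_lit 0, nat_lit 4, nat_lit 1, nat_lit 3],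
   [nat_lit 2, nat_lit 4, nat_lit 3, nat_lit 4, nat_lit 2, nat_lit 4, nat_lit 3],
   [nat_lit 3, nat_lit 4, nat_lit 3, nat_lit 4, nat_lit 3, nat_lit 4, nat_lit 3],
   [nat_lit 6, nat_lit 0, nat_lit 3, nat_lit 0, nat_lit 6, nat_lit 4, nat_lit 6, nat_lit 0, nat_lit 3, nat_lit 0, nat_lit 6],
   [nat_lit 2, nat_lit 4, nat_lit 6, nat_lit 1, nat_lit 4, nat_lit 6, nat_lit 2, nat_lit 6, nat_lit 4, nat_lit 3, nat_lit 6, nat_lit 1, nat_lit 3],
   [nat_lit 2, nat_lit 0, nat_lit 4, nat_lit 0, nat_lit 3, nat_lit 1, nat_lit 0],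
   [nat_lit 1, nat_lit 3, nat_lit 5, nat_lit 0, nat_lit 5, nat_lit 4, nat_lit 1, nat_lit 2, nat_lit 0, nat_lit 1, nat_lit 0],
   [nat_lit 1, nat_lit 6, nat_lit 5, nat_lit 4, nat_lit 3, nat_lit 0, nat_lit 5, nat_lit 0, nat_lit 6, nat_lit 4, nat_lit 5, nat_lit 0, nat_lit 6, nat_lit 1, nat_lit 4, nat_lit 6, nat_lit 5],
   [nat_lit 6, nat_lit 0, nat_lit 5, nat_lit 0, nat_lit 3, nat_lit 4, nat_lit 5, nat_lit 6, nat_lit 1, nat_lit 4, nat_lit 5, nat_lit 6, nat_lit 4, nat_lit 1, nat_lit 6, nat_lit 0, nat_lit 5],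
   [nat_lit 1, nat_lit 4, nat_lit 2, nat_lit 4, nat_lit 1, nat_lit 4, nat_lit 2],
   [nat_lit 0, nat_lit 1, nat_lit 3, nat_lit 0, nat_lit 4, nat_lit 0, nat_lit 2],
   [nat_lit 0, nat_lit 4, nat_lit 1, nat_lit 4, nat_lit 0, nat_lit 4, nat_lit 3],
   [nat_lit 1, nat_lit 4, nat_lit 0, nat_lit 4, nat_lit 3, nat_lit 4, nat_lit 0],
   [nat_lit 2, nat_lit 4, nat_lit 1, nat_lit 4, nat_lit 2, nat_lit 4, nat_lit 1],
   [nat_lit 0, nat_lit 3, nat_lit 1, nat_lit 0, nat_lit 4, nat_lit 2, nat_lit 0],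
   [nat_lit 0, nat_lit 4, nat_lit 3, nat_lit 4, nat_lit 0, nat_lit 4, nat_lit 1],
   [nat_lit 3, nat_lit 4, nat_lit 0, nat_lit 4, nat_lit 1, nat_lit 4, nat_lit 0],
   [nat_lit 0, nat_lit 2, nat_lit 4, nat_lit 0, nat_lit 1, nat_lit 3, nat_lit 0],
   [nat_lit 5, nat_lit 2, nat_lit 1, nat_lit 0, nat_lit 5, nat_lit 4, nat_lit 3, nat_lit 0, nat_lit 1],
   [nat_lit 3, nat_lit 4, nat_lit 2, nat_lit 4, nat_lit 3, nat_lit 4, nat_lit 2],
   [nat_lit 1, nat_lit 5, nat_lit 4, nat_lit 0, nat_lit 4, nat_lit 5, nat_lit 4, nat_lit 0, nat_lit 4, nat_lit 5, nat_lit 4, nat_lit 2],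
   [nat_lit 0, nat_lit 4, nat_lit 0, nat_lit 4, nat_lit 0, nat_lit 4, nat_lit 0]],
  [[nat_lit 4, nat_lit 2, nat_lit 4, nat_lit 1, nat_lit 5, nat_lit 4, nat_lit 0, nat_lit 4, nat_lit 5, nat_lit 4, nat_lit 0, nat_lit 4],
   [nat_lit 1, nat_lit 6, nat_lit 0, nat_lit 4, nat_lit 1, nat_lit 3, nat_lit 4, nat_lit 6],
   [nat_lit 0, nat_lit 5, nat_lit 0, nat_lit 1, nat_lit 0],
   [nat_lit 1, nat_lit 2, nat_lit 1, nat_lit 5, nat_lit 2],
   [nat_lit 3, nat_lit 5, nat_lit 3],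
   [nat_lit 8],
   [nat_lit 2, nat_lit 5, nat_lit 1, nat_lit 2, nat_lit 1],
   [nat_lit 6, nat_lit 5, nat_lit 6, nat_lit 5, nat_lit 6],
   [nat_lit 1, nat_lit 5, nat_lit 1],
   [nat_lit 6, nat_lit 0, nat_lit 1, nat_lit 0, nat_lit 6, nat_lit 5, nat_lit 0],
   [nat_lit 4, nat_lit 6, nat_lit 4, nat_lit 5, nat_lit 4, nat_lit 6, nat_lit 4, nat_lit 5, nat_lit 4, nat_lit 6, nat_lit 4, nat_lit 5, nat_lit 4, nat_lit 6, nat_lit 4],
   [nat_lit 1, nat_lit 4, nat_lit 5, nat_lit 4, nat_lit 1, nat_lit 4, nat_lit 1, nat_lit 4, nat_lit 5, nat_lit 4, nat_lit 1, nat_lit 5, nat_lit 4, nat_lit 5, nat_lit 1, nat_lit 4],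
   [nat_lit 0, nat_lit 1, nat_lit 0, nat_lit 5, nat_lit 0],
   [nat_lit 0, nat_lit 5, nat_lit 6, nat_lit 0, nat_lit 1, nat_lit 0, nat_lit 6],
   [nat_lit 1, nat_lit 4, nat_lit 5, nat_lit 1, nat_lit 4, nat_lit 5, nat_lit 4, nat_lit 1, nat_lit 4, nat_lit 1, nat_lit 4, nat_lit 5, nat_lit 4, nat_lit 1, nat_lit 5, nat_lit 4],
   [nat_lit 6, nat_lit 4, nat_lit 1, nat_lit 6, nat_lit 0, nat_lit 5, nat_lit 4, nat_lit 6, nat_lit 0, nat_lit 5, nat_lit 0, nat_lit 3, nat_lit 4, nat_lit 5, nat_lit 6, nat_lit 1, nat_lit 4],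
   [nat_lit 4, nat_lit 6, nat_lit 4, nat_lit 3, nat_lit 6, nat_lit 0, nat_lit 6, nat_lit 4, nat_lit 5, nat_lit 3, nat_lit 4, nat_lit 6, nat_lit 4, nat_lit 3, nat_lit 5, nat_lit 4, nat_lit 2, nat_lit 3, nat_lit 0]],
  [[nat_lit 5, nat_lit 6, nat_lit 5, nat_lit 6, nat_lit 5],
   [nat_lit 4, nat_lit 3, nat_lit 4, nat_lit 6, nat_lit 2, nat_lit 4, nat_lit 3, nat_lit 4, nat_lit 6, nat_lit 4, nat_lit 3, nat_lit 4],
   [nat_lit 2, nat_lit 6, nat_lit 2],
   [nat_lit 0, nat_lit 1, nat_lit 0, nat_lit 6, nat_lit 0, nat_lit 1, nat_lit 0],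
   [nat_lit 3, nat_lit 1, nat_lit 6, nat_lit 1, nat_lit 3, nat_lit 6, nat_lit 3, nat_lit 1],
   [nat_lit 5, nat_lit 0, nat_lit 5, nat_lit 6, nat_lit 0, nat_lit 1, nat_lit 0],
   [nat_lit 0, nat_lit 6, nat_lit 1, nat_lit 6, nat_lit 0, nat_lit 6, nat_lit 1],
   [nat_lit 1, nat_lit 6, nat_lit 3, nat_lit 6, nat_lit 1, nat_lit 6, nat_lit 3],
   [nat_lit 3, nat_lit 1, nat_lit 6, nat_lit 3, nat_lit 1, nat_lit 6, nat_lit 1, nat_lit 3],
   [nat_lit 4, nat_lit 3, nat_lit 4, nat_lit 2, nat_lit 6, nat_lit 4, nat_lit 3, nat_lit 4, nat_lit 6, nat_lit 4, nat_lit 3, nat_lit 4],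
   [nat_lit 1, nat_lit 0, nat_lit 1, nat_lit 6, nat_lit 0, nat_lit 1, nat_lit 0],
   [nat_lit 0, nat_lit 1, nat_lit 0, nat_lit 6, nat_lit 1, nat_lit 0, nat_lit 1],
   [nat_lit 0, nat_lit 1, nat_lit 0, nat_lit 6, nat_lit 5, nat_lit 0, nat_lit 5],
   [nat_lit 0, nat_lit 4, nat_lit 1, nat_lit 3, nat_lit 4, nat_lit 6, nat_lit 5, nat_lit 1],
   [nat_lit 1, nat_lit 4, nat_lit 6, nat_lit 2, nat_lit 6, nat_lit 4, nat_lit 3, nat_lit 6, nat_lit 1, nat_lit 3, nat_lit 4, nat_lit 2, nat_lit 4],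
   [nat_lit 5, nat_lit 4, nat_lit 3, nat_lit 0, nat_lit 5, nat_lit 0, nat_lit 6, nat_lit 4, nat_lit 5, nat_lit 0, nat_lit 6, nat_lit 1, nat_lit 4, nat_lit 6, nat_lit 5, nat_lit 4, nat_lit 1],
   [nat_lit 4, nat_lit 3, nat_lit 1, nat_lit 4, nat_lit 0, nat_lit 6, nat_lit 5, nat_lit 1],
   [nat_lit 5, nat_lit 1, nat_lit 6, nat_lit 0, nat_lit 4, nat_lit 1, nat_lit 3, nat_lit 4],
   [nat_lit 1, nat_lit 6, nat_lit 0, nat_lit 3, nat_lit 6, nat_lit 1, nat_lit 6, nat_lit 3, nat_lit 0],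
   [nat_lit 4, nat_lit 3, nat_lit 1, nat_lit 4, nat_lit 0, nat_lit 6, nat_lit 1, nat_lit 5],
   [nat_lit 0, nat_lit 6, nat_lit 3, nat_lit 4, nat_lit 6, nat_lit 4, nat_lit 5, nat_lit 0, nat_lit 3, nat_lit 2, nat_lit 4, nat_lit 5, nat_lit 3, nat_lit 4, nat_lit 6, nat_lit 4, nat_lit 3, nat_lit 5, nat_lit 4]],
  []]

def HT : List (List (Nat × Nat × Nat)) := [
  [(2, 0, 0), (0, 35, 6), (0, 8, 1), (0, 12, 1), (0, 39, 1), (0, 15, 5), (1, 18, 3), (0, 45, 4), (0, 21, 5), (0, 21, 1), (0, 7, 1), (1, 13, 0), (0, 13, 6), (0, 35, 1), (0, 14, 1), (1, 38, 4), (0, 18, 8), (1, 18, 7), (0, 38, 7), (1, 13, 5), (0, 21, 3), (0, 25, 1), (0, 15, 1)],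
  [(0, 19, 1), (0, 10, 1), (0, 32, 1), (2, 1, 0), (0, 35, 2), (0, 48, 4), (0, 9, 1), (0, 44, 3), (0, 44, 8), (0, 22, 1), (0, 36, 2), (0, 31, 2), (0, 7, 0), (0, 15, 3), (0, 34, 7), (0, 34, 3), (1, 41, 4), (0, 41, 7), (0, 16, 1), (1, 47, 8), (0, 13, 2), (0, 22, 3), (1, 13, 7), (0, 21, 2)],
  [(0, 29, 1), (0, 11, 1), (2, 2, 0), (0, 8, 0), (0, 33, 1), (1, 18, 8), (0, 22, 5), (0, 9, 0), (1, 13, 2), (0, 41, 4), (1, 41, 7), (0, 22, 2)],
  [(0, 20, 1), (2, 3, 0), (0, 40, 2), (0, 10, 0), (0, 12, 0), (0, 32, 3), (0, 11, 0), (0, 17, 1), (1, 37, 5), (1, 13, 6), (0, 33, 3), (0, 15, 7), (0, 34, 4), (0, 18, 9), (0, 13, 3), (0, 48, 6)],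
  [(1, 43, 12), (2, 4, 0), (0, 41, 8), (0, 34, 5), (0, 33, 0), (0, 17, 0), (0, 40, 5), (0, 43, 3), (1, 13, 1), (1, 27, 1), (1, 47, 12), (0, 47, 15), (0, 16, 0), (0, 13, 0), (0, 15, 0), (0, 15, 2), (0, 16, 2), (1, 13, 4), (0, 15, 4), (0, 15, 6), (0, 13, 5), (1, 38, 6), (0, 33, 2), (1, 25, 9), (0, 14, 0)],
  [(1, 25, 6), (0, 44, 7), (0, 21, 4), (0, 22, 0), (0, 20, 0), (2, 5, 0), (0, 22, 4), (0, 30, 1), (0, 19, 0), (0, 36, 7), (0, 46, 2), (1, 28, 10), (0, 21, 0), (0, 36, 5), (1, 28, 7), (0, 47, 8), (1, 49, 1)],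
  [(0, 30, 0), (0, 42, 9), (0, 29, 0), (0, 31, 0), (1, 37, 7), (0, 36, 4), (0, 39, 0), (0, 32, 0), (1, 37, 4), (1, 42, 9), (0, 35, 4), (0, 35, 0), (0, 36, 0), (0, 44, 0), (0, 43, 6), (1, 47, 14), (1, 34, 4), (0, 44, 6), (0, 48, 8), (1, 44, 4), (0, 49, 13)],
  []]

def W : List (List Nat) := [[0],
   [1],
   [2],
   [3],
   [4],
   [5]]

noncomputable def P : Par := ⟨T, (nat_lit 4), (nat_lit 15), (nat_lit 144), (nat_lit 16), (nat_lit 65535), (nat_lit 8), (nat_lit 255), (nat_lit 7), (nat_lit 192), (nat_lit 192), (nat_lit 0x8398a418820), RT⟩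

noncomputable def J0 : List Nat := [
  nat_lit 0x41840011e100045840010e100043840012e100100045002081826280042811c101c031014000082000128c70486001000008200012220a005201038a68200014c13940000102470400001000000410010000000208119c4a40e0810000004100100000002081,
  nat_lit 0x68000820001500600410010004000208100802041001000400020813a8c9820181589020410010000000208182b2980400100000820001000000020818200122400104100003001280104000010480082000104000041001,
  nat_lit 0x820001000000020818200200a00104100003001200104e6001000a082000154000041001000400020810000082a0010004200208182d2a2440012007040000104c00820001000008200010000768208182029800001,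
  nat_lit 0x300704e000100008832101000008200010004801a08182601400b0164100004101280104e000105005820001508000411010000282a001000407020818205000090104110280001000104001012006004188100002002081,
  nat_lit 0x820001c600104100180281000a0820001000a00411012414940a0012020a00800128c10646001000a082620100000026081000c082020100c0284100100000002081823022401010020800000100c1040400100000782081,
  nat_lit 0x282081c00014806c820001820500002010410000d0019801040600182c00140201641002000010000e82000150005d4110100c0002e0810220800000180c1056630130c07026081000008220818205012080124138140201,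
  nat_lit 0x6204120122e0940a001820500000010410000020170208000001900704002010204002608182028280101041014060010540082060100048012081200608200010004080208100c10406001b08007c100100000a82081,
  nat_lit 0x82350000201766080040012b81040e0010000504208182c000ca001641015c038100d6082078100c48002081010400260817020c006001a201040a281820295ea401641016604810258d82500100c10446501a8c02041101,
  nat_lit 0x100052a0818c10026e001828280a54012411ac0000103da082020100802041981200008200010000e82c0018381c0e600105c60041281000009a60812000082000102048002081900706a92017c128b2a481c0c00826001,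
  nat_lit 0x41496062010447040a00100922a4120154148005381200705e000165d020410010000200208182000005701641002ef001580105c06010411ac0e00120040820001222094c02012220a2a00012810204168100c489aa081,
  nat_lit 0xc6f82600120c480220818232c70f10120060d412012411ace6a81838a8822201220c882a58120c7066620120a08ace20182c114c0401608705e020152046b260812006c82220100c48046081bc112106a01b58704ea201]

theorem c0 : chk T (nat_lit 4) (nat_lit 15) (nat_lit 144) (nat_lit 16) (nat_lit 65535) (nat_lit 8) (nat_lit 255) (nat_lit 7) (nat_lit 192) (nat_lit 192) (nat_lit 0x8398a418820) (nat_lit 5) (nat_lit 31) RT (nat_lit 16) J0 (nat_lit 16) = true := by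
  decide +kernel

theorem r0 : P.RowsOK 16 192 := chk_sound P _ _ _ J0 _ _ (by decide +kernel) c0

theorem index.{u} : IndexLe.{u} 7 HS.R W 176 :=
  indexLe_of_cert P HT (by decide +kernel)
    (show P.RowsOK 16 192 from r0)

end Cfsg.Agent.SchurG.HS.Top
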