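import Cfsg.Agent.SchurG.HS.Pres
import Cfsg.Agent.SchurG.HS.Top

set_option autoImplicit false
set_option maxRecDepth 100000

namespace Cfsg.Agent.SchurG.HS
open Cfsg.Agent.Comp

namespace Tk5

noncomputable def t0 : Tr := (Tr.leaf (nat_lit 0x1fffff800fffffc007ffffe003fffff001fffff800fffffc007ffffe003fffff001fffff800fffffc007ffffe003fffff001fffff800fffffe087ff020003ff831))

noncomputable def T : Tr := t0

def RT : List (List (List Nat)) := [
  [],
  []]

def HT : List (List (Nat × Nat × Nat)) := [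
  [],
  []]

def R : List (List Nat) :=
  [[0, 0]]

def W : List (List Nat) := []

noncomputable def P : Par := ⟨T, (nat_lit 4), (nat_lit 15), (nat_lit 33), (nat_lit 11), (nat_lit 2047), (nat_lit 5), (nat_lit 31), (nat_lit 1), (nat_lit 18), (nat_lit 32), (nat_lit 0x820), RT⟩

noncomputable def J0 : List Nat := [
  nat_lit 0x69249249249249249249249]

theorem c0 : chk T (nat_lit 4) (nat_lit 15) (nat_lit 33) (nat_lit 11) (nat_lit 2047) (nat_lit 5) (nat_lit 31) (nat_lit 1) (nat_lit 18) (nat_lit 32) (nat_lit 0x820) (nat_lit 1) (nat_lit 1) RT (nat_lit 16) J0 (nat_lit 16) = true := by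
  decide +kernel

theorem r0 : P.RowsOK 16 32 := chk_sound P _ _ _ J0 _ _ (by decide +kernel) c0

theorem index.{u} : IndexLe.{u} 1 R W 2 :=
  indexLe_of_cert P HT (by decide +kernel)
    (show P.RowsOK 16 32 from r0)

end Tk5

theorem upK_5 : CardLe (genW s [[0]]) 2 :=
  CardLe.tc (V' := []) (n := 2) (m := 1) [0] Tk5.index pres.sat (by decide +kernel) (by decide +kernel) (by decide +kernel) (cardLe_nil s)

namespace Tk4

noncomputable def t0 : Tr := (Tr.leaf (nat_lit 0xfffffffff000fffffffff000fffffffff000fffffffff000fffffffff000fffffffff000fffffffff000fffffffff000fffffffff000fffffffff000fffffffff000fffffffff000fffffffff811fff052011430fff010032000fff031030))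

noncomputable def T : Tr := t0

def RT : List (List (List Nat)) := [
  [[nat_lit 3]],
  [[nat_lit 0, nat_lit 1, nat_lit 0, nat_lit 1, nat_lit 0]],
  []]

def HT : List (List (Nat × Nat × Nat)) := [
  [(2, 0, 0)],
  [(0, 2, 0)],
  []]

def R : List (List Nat) :=
  [[0, 0],
   [1, 1],
   [0, 1, 0, 1, 0, 1]]

def W : List (List Nat) := [[0]]

noncomputable def P : Par := ⟨T, (nat_lit 4), (nat_lit 15), (nat_lit 48), (nat_lit 12), (nat_lit 4095), (nat_lit 5), (nat_lit 31), (nat_lit 2), (nat_lit 19), (nat_lit 32), (nat_lit 0x18820), RT⟩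

noncomputable def J0 : List Nat := [
  nat_lit 0x134124661111111111111111111111111111111111111111]

theorem c0 : chk T (nat_lit 4) (nat_lit 15) (nat_lit 48) (nat_lit 12) (nat_lit 4095) (nat_lit 5) (nat_lit 31) (nat_lit 2) (nat_lit 19) (nat_lit 32) (nat_lit 0x18820) (nat_lit 2) (nat_lit 3) RT (nat_lit 16) J0 (nat_lit 16) = true := by
  decide +kernel

theorem r0 : P.RowsOK 16 32 := chk_sound P _ _ _ J0 _ _ (by decide +kernel) c0

theorem index.{u} : IndexLe.{u} 2 R W 3 :=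
  indexLe_of_cert P HT (by decide +kernel)
    (show P.RowsOK 16 32 from r0)

end Tk4

theorem upK_4 : CardLe (genW s [[0], [1]]) 6 :=
  CardLe.tc (V' := [[0]]) (n := 3) (m := 2) [0, 1] Tk4.index pres.sat (by decide +kernel) (by decide +kernel) (by decide +kernel) upK_5

namespace Tk3

noncomputable def t0 : Tr := (Tr.leaf (nat_lit 0xffffffffffff000ffffffffffff000ffffffffffff000ffffffffffff000ffffffffffff000ffffffffffff000ffffffffffff000ffffffffffff000ffffffffffff000ffffffffffff000ffffffffffff000ffffffffffffc12fff073073012831fff052011033450fff010032051000fff031030030))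

noncomputable def T : Tr := t0

def RT : List (List (List Nat)) := [
  [[nat_lit 4],
   [nat_lit 2, nat_lit 0, nat_lit 2]],
  [[nat_lit 0, nat_lit 1, nat_lit 0, nat_lit 1, nat_lit 0],
   [nat_lit 4]],
  [[nat_lit 1, nat_lit 2, nat_lit 1, nat_lit 2, nat_lit 1],
   [nat_lit 0, nat_lit 2, nat_lit 0]],
  []]

def HT : List (List (Nat × Nat × Nat)) := [
  [(2, 0, 0), (0, 4, 1)],
  [(0, 3, 0), (2, 1, 0)],
  [(0, 5, 0), (0, 4, 0)],
  []]

def R : List (List Nat) :=
  [[0, 0],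
   [1, 1],
   [2, 2],
   [0, 1, 0, 1, 0, 1],
   [0, 2, 0, 2],
   [1, 2, 1, 2, 1, 2]]

def W : List (List Nat) := [[0],
   [1]]

noncomputable def P : Par := ⟨T, (nat_lit 4), (nat_lit 15), (nat_lit 60), (nat_lit 12), (nat_lit 4095), (nat_lit 5), (nat_lit 31), (nat_lit 3), (nat_lit 20), (nat_lit 32), (nat_lit 0x418820), RT⟩

noncomputable def J0 : List Nat := [
  nat_lit 0x134001741c912619b1111111111111111111111111111111111111111111111111]

theorem c0 : chk T (nat_lit 4) (nat_lit 15) (nat_lit 60) (nat_lit 12) (nat_lit 4095) (nat_lit 5) (nat_lit 31) (nat_lit 3) (nat_lit 20) (nat_lit 32) (nat_lit 0x418820) (nat_lit 2) (nat_lit 3) RT (nat_lit 16) J0 (nat_lit 16) = true := by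
  decide +kernel

theorem r0 : P.RowsOK 16 32 := chk_sound P _ _ _ J0 _ _ (by decide +kernel) c0

theorem index.{u} : IndexLe.{u} 3 R W 4 :=
  indexLe_of_cert P HT (by decide +kernel)
    (show P.RowsOK 16 32 from r0)

end Tk3

theorem upK_3 : CardLe (genW s [[0], [1], [2]]) 24 :=
  CardLe.tc (V' := [[0], [1]]) (n := 4) (m := 6) [0, 1, 2] Tk3.index pres.sat (by decide +kernel) (by decide +kernel) (by decide +kernel) upK_4

namespace Tk2

noncomputable def t0 : Tr := (Tr.leaf (nat_lit 0x7fffffffffffffffc001ffffffffffffffff0007fffffffffffffffc001ffffffffffffffff0007fffffffffffffffc001ffffffffffffffff0007fffffffffffffffc001ffffffffffffffff0007fffffffffffffffc001ffffffffffffffff0007fffffffffffffffe0a7fff04a004c1280946197ffc0e603400901cd023fff02901c80660112387ffc02005102880c8001fff01880c0060030))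

noncomputable def T : Tr := t0

def RT : List (List (List Nat)) := [
  [[nat_lit 5],
   [nat_lit 1, nat_lit 0, nat_lit 1, nat_lit 0, nat_lit 1],
   [nat_lit 2, nat_lit 0, nat_lit 2]],
  [[nat_lit 5],
   [nat_lit 3, nat_lit 1, nat_lit 3],
   [nat_lit 2, nat_lit 1, nat_lit 2, nat_lit 1, nat_lit 2]],
  [[nat_lit 5],
   [nat_lit 3, nat_lit 2, nat_lit 3],
   [nat_lit 0, nat_lit 2, nat_lit 0]],
  [[nat_lit 0, nat_lit 3, nat_lit 0, nat_lit 3, nat_lit 0],
   [nat_lit 1, nat_lit 3, nat_lit 1],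
   [nat_lit 2, nat_lit 3, nat_lit 2]],
  []]

def HT : List (List (Nat × Nat × Nat)) := [
  [(2, 0, 0), (0, 4, 1), (0, 5, 1)],
  [(2, 1, 0), (0, 7, 1), (0, 6, 1)],
  [(2, 2, 0), (0, 8, 1), (0, 5, 0)],
  [(0, 9, 0), (0, 7, 0), (0, 8, 0)],
  []]

def R : List (List Nat) :=
  [[0, 0],
   [1, 1],
   [2, 2],
   [3, 3],
   [0, 1, 0, 1, 0, 1],
   [0, 2, 0, 2],
   [1, 2, 1, 2, 1, 2],
   [1, 3, 1, 3],
   [2, 3, 2, 3],
   [0, 3, 0, 3, 0, 3]]

def W : List (List Nat) := [[0],
   [1],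
   [2]]

noncomputable def P : Par := ⟨T, (nat_lit 4), (nat_lit 15), (nat_lit 78), (nat_lit 13), (nat_lit 8191), (nat_lit 5), (nat_lit 31), (nat_lit 4), (nat_lit 21), (nat_lit 32), (nat_lit 0xa418820), RT⟩

noncomputable def J0 : List Nat := [
  nat_lit 0x8c8002320008c8086e2188882e218648c0842108421084210842108421084210842108421084210842108421084210842108421]

theorem c0 : chk T (nat_lit 4) (nat_lit 15) (nat_lit 78) (nat_lit 13) (nat_lit 8191) (nat_lit 5) (nat_lit 31) (nat_lit 4) (nat_lit 21) (nat_lit 32) (nat_lit 0xa418820) (nat_lit 3) (nat_lit 7) RT (nat_lit 16) J0 (nat_lit 16) = true := by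
  decide +kernel

theorem r0 : P.RowsOK 16 32 := chk_sound P _ _ _ J0 _ _ (by decide +kernel) c0

theorem index.{u} : IndexLe.{u} 4 R W 5 :=
  indexLe_of_cert P HT (by decide +kernel)
    (show P.RowsOK 16 32 from r0)

end Tk2

theorem upK_2 : CardLe (genW s [[0], [1], [2], [3]]) 120 :=
  CardLe.tc (V' := [[0], [1], [2]]) (n := 5) (m := 24) [0, 1, 2, 3] Tk2.index pres.sat (by decide +kernel) (by decide +kernel) (by decide +kernel) upK_3

namespace Tk1

noncomputable def t0 : Tr := (Tr.leaf (nat_lit 0x7ffffffffffffffffffe000fffffffffffffffffffc001fffffffffffffffffff8003fffffffffffffffffff84bfffc02e0d808d83ec1f7095fff80541340b605c8269929fff00a01640b20da02c324fffe01307d8160130079629fffc0760f3009825016ac92fff80480ac0da02b0159865fff01d01480e801206ba1c7ffe039008825416e053418fffc0700d701b80440e8811fff80d80ea05101a8044921fff00800d00e40330190003ffe03101800c0060030))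

noncomputable def T : Tr := t0

def RT : List (List (List Nat)) := [
  [[nat_lit 6],
   [nat_lit 4, nat_lit 0, nat_lit 4, nat_lit 0, nat_lit 4, nat_lit 0, nat_lit 4],
   [nat_lit 4, nat_lit 3, nat_lit 4, nat_lit 0, nat_lit 4, nat_lit 1, nat_lit 4],
   [nat_lit 4, nat_lit 1, nat_lit 4, nat_lit 0, nat_lit 4, nat_lit 3, nat_lit 4],
   [nat_lit 3, nat_lit 4, nat_lit 0, nat_lit 1, nat_lit 2, nat_lit 0, nat_lit 1, nat_lit 4, nat_lit 1],
   [nat_lit 2, nat_lit 0, nat_lit 2]],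
  [[nat_lit 6],
   [nat_lit 4, nat_lit 0, nat_lit 4, nat_lit 3, nat_lit 4, nat_lit 0, nat_lit 4],
   [nat_lit 2, nat_lit 1, nat_lit 2, nat_lit 1, nat_lit 2],
   [nat_lit 0, nat_lit 4, nat_lit 2, nat_lit 0, nat_lit 4, nat_lit 0, nat_lit 3]],
  [[nat_lit 6],
   [nat_lit 4, nat_lit 1, nat_lit 4, nat_lit 2, nat_lit 4, nat_lit 1, nat_lit 4],
   [nat_lit 4, nat_lit 3, nat_lit 4, nat_lit 2, nat_lit 4, nat_lit 3, nat_lit 4],
   [nat_lit 4, nat_lit 3, nat_lit 1, nat_lit 4, nat_lit 3, nat_lit 4, nat_lit 1, nat_lit 4, nat_lit 3],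
   [nat_lit 0, nat_lit 4, nat_lit 0, nat_lit 3, nat_lit 1, nat_lit 0, nat_lit 4],
   [nat_lit 3, nat_lit 2, nat_lit 3]],
  [[nat_lit 4, nat_lit 0, nat_lit 4, nat_lit 1, nat_lit 4, nat_lit 0, nat_lit 4],
   [nat_lit 1, nat_lit 0, nat_lit 4, nat_lit 2, nat_lit 0, nat_lit 4, nat_lit 0],
   [nat_lit 4, nat_lit 3, nat_lit 4, nat_lit 3, nat_lit 4, nat_lit 3, nat_lit 4],
   [nat_lit 6],
   [nat_lit 1, nat_lit 3, nat_lit 1]],
  [],
  []]

def HT : List (List (Nat × Nat × Nat)) := [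
  [(2, 0, 0), (0, 12, 1), (0, 13, 5), (0, 13, 1), (0, 16, 8), (0, 6, 1)],
  [(2, 1, 0), (0, 13, 3), (0, 7, 1), (1, 11, 7)],
  [(2, 2, 0), (0, 14, 3), (0, 18, 1), (1, 19, 7), (1, 11, 2), (0, 9, 1)],
  [(0, 13, 7), (1, 11, 6), (0, 15, 1), (2, 3, 0), (0, 8, 0)],
  [],
  []]

def R : List (List Nat) :=
  [[0, 0],
   [1, 1],
   [2, 2],
   [3, 3],
   [4, 4],
   [0, 1, 0, 1, 0, 1],
   [0, 2, 0, 2],
   [1, 2, 1, 2, 1, 2],
   [1, 3, 1, 3],
   [2, 3, 2, 3],
   [0, 3, 0, 3, 0, 3],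
   [0, 1, 3, 0, 4, 0, 2, 4],
   [0, 4, 0, 4, 0, 4, 0, 4],
   [0, 4, 1, 4, 0, 4, 3, 4],
   [1, 4, 2, 4, 1, 4, 2, 4],
   [3, 4, 3, 4, 3, 4, 3, 4],
   [0, 1, 2, 0, 1, 4, 1, 0, 3, 4],
   [1, 2, 4, 2, 4, 2, 1, 4, 3, 4],
   [2, 4, 3, 4, 2, 4, 3, 4],
   [1, 3, 4, 2, 3, 4, 1, 4, 3, 4],
   [0, 1, 4, 0, 4, 1, 0, 4, 2, 4]]

def W : List (List Nat) := [[0],
   [1],
   [2],
   [3]]

noncomputable def P : Par := ⟨T, (nat_lit 4), (nat_lit 15), (nat_lit 91), (nat_lit 13), (nat_lit 8191), (nat_lit 5), (nat_lit 31), (nat_lit 5), (nat_lit 28), (nat_lit 32), (nat_lit 0x18a418820), RT⟩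

noncomputable def J0 : List Nat := [
  nat_lit 0x119000464001190005e4040022188c00444601c0440447b016c2887c88010d888609221b6c885bea21084210842108421084210842108421]

theorem c0 : chk T (nat_lit 4) (nat_lit 15) (nat_lit 91) (nat_lit 13) (nat_lit 8191) (nat_lit 5) (nat_lit 31) (nat_lit 5) (nat_lit 28) (nat_lit 32) (nat_lit 0x18a418820) (nat_lit 3) (nat_lit 7) RT (nat_lit 16) J0 (nat_lit 16) = true := by
  decide +kernel

theorem r0 : P.RowsOK 16 32 := chk_sound P _ _ _ J0 _ _ (by decide +kernel) c0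

theorem index.{u} : IndexLe.{u} 5 R W 12 :=
  indexLe_of_cert P HT (by decide +kernel)
    (show P.RowsOK 16 32 from r0)

end Tk1

theorem upK_1 : CardLe (genW s [[0], [1], [2], [3], [4]]) 1440 :=
  CardLe.tc (V' := [[0], [1], [2], [3]]) (n := 12) (m := 120) [0, 1, 2, 3, 4] Tk1.index pres.sat (by decide +kernel) (by decide +kernel) (by decide +kernel) upK_2

namespace Tk0

noncomputable def t0 : Tr := (Tr.node (nat_lit 4) (Tr.node (nat_lit 1) (Tr.node (nat_lit 0) (Tr.leaf (nat_lit 0x400b7fffc10340127040e024640e3c0016428affffc002a0126010b02c58103e0319420affffc10420015018e80c740e42031b428a7fffc00280125038f81488042c0622420a7fffc14360014041200c6c0836041d410a7fffc123e0124040a000500a2a06174289ffffc0026012302910287c0644041e4209ffffc08300013018c01c84063003184089ffffc024401210189810540026071a32897fffc00240120018f030780638011f31897fffc023c011d00090145c0c34021430897fffc0238011b038d004680024031530097fffc02320118020b80c48022e00122208ffffc022c0011008a8104c0228011312887fffc002001120108808440422021100007fffc0222011000880044002200110))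
(Tr.leaf (nat_lit 0x6091ffffc02a8015309a900548004610386011ffffc02a20150061e81cb4167c002362117fffc029e002200a7020b8029a0a3052907fffc0040022c01a5005300688014b51907fffc02940149001000d1806841d3751107fffc0290014700a300080028a082750907fffc0288014300a10050400400f3b50107fffc0280013f009f0249c027a0020520fffffc0278001f009d828a00274092a520f7fffc0272001e009c01cd8026e0136520e7fffc0668001c009a820cc02680133520d7fffc1648001a038d8249010480824520cffffc026400190098804c0025e012e528bffffc002e012d020c810700432051c520bffffc123a00170290818600c3a0521420b7fffc025800160095804a802520128)))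
(Tr.node (nat_lit 2) (Tr.leaf (nat_lit 0x62147fffc1aba0028022e86dc408c20e4761947fffc02e801730014028ec145c0d4160947fffc02e40171059703938005011696293ffffc004e017001b6805bc06d6016e6193ffffc02da016c001382cf806d20e296093ffffc02d6016a00b4805a0004e0f3162937fffc004c016708a60492806c8016661937fffc249801650013031141e820f2f60937fffc02c80163072083508004c1c2b60137fffc02c4016105a281898188c00266192ffffc28bc016000128257028bc11346092ffffc044a015f09af00578004a12356012ffffc2ab8015d03ae01c9402b800256291ffffc0046015b01ac8556406a8015a6191ffffc02b2015800118355428a4103a6111ffffc02ae0156062a8008c02aa092d))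
(Tr.node (nat_lit 3) (Tr.leaf (nat_lit 0x7296ffffc005a01850837845b407060d757196ffffc24de01840016834f422d0124d7096ffffc030601820734035a4005a134e61167fffc22700181081c800b00eb4085160167fffc1ed201800735825441eda002c6295ffffc0056017f0116044e432cc13626215ffffc02fc002b02328359418e6036a62957fffc0054017d01be0216808f2145962157fffc0ac2002a05b0869ec18ba0d3f61957fffc02f8017b0015008ac166c1e4260957fffc06f2017a051b02ce000540e526294ffffc005223440b33005e4045814726214ffffc408600290d3c0358c28be036c6194ffffc32cc01780014830dc04561f466114ffffc10b40177079b800a420700c3e62947fffc0050017601ba005d406e4126d))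
(Tr.leaf (nat_lit 0x721a7fffc42be00340c4301a0826860784711a7fffc2a6a1987091a000d0266a0f5c7219ffffc187e0033019f87224168e0b567099ffffc28661f7e0319820d40066105e72197fffc0ab6003216ad8063c031c018d70197fffc0e82018c07b201d200c9800327298ffffc0062018b0119050c826dc13487218ffffc3cf40031034202db02f12056372987fffc0060018a06c403db809100e6f72187fffc1eac003004a805df812a00c5d70987fffc071001890598030c400600f687297ffffc005e226b093700620046413747217ffffc3f04002f00c382da82cc605657117ffffc20dc01860a17800bc2a620d4572977fffc005c106e06b90292c18e8074c72177fffc1ea0002e052b059cc14ac0561)))))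
(Tr.node (nat_lit 7) (Tr.node (nat_lit 5) (Tr.leaf (nat_lit 0x711e7fffc229c1c7c07a7800f018ea0d57701e7fffc1ea40f5108aa0415c24b2003c729dffffc00760198011e0413c1c961140721dffffc3ce2003b04b00296014f60243729d7fffc0074215406a582dc804781279721d7fffc3cc6003a0e4b0294c2b040249719d7fffc1c960197001d031340476103d711d7fffc1aea019607a6800e8209c0e55721cffffc170a003900ca8065003260192701cffffc308401910ba20518830940039721c7fffc34e6003801a48312432fc0453729bffffc006e2383072d035f004721b7c721bffffc3ad400370dbb8310c2aa60458729b7fffc006c0190063c855981af8124a721b7fffc0c8e0036052385de8067e0450721affffc3b120035053601a102ef40782))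
(Tr.node (nat_lit 6) (Tr.leaf (nat_lit 0x72257fffc4cec004a00d40aa84034e01a672a4ffffc00921e5c0bb98595830ca1d8972247fffc4d4a004800d28069048fa01a372a37fffc008c1b6f01240319018c41a6472237fffc410800460c3d0651c12d80e717222ffffc3ab000450cbd859842cc00e7371227fffc048a01a205b1001100690116b72217fffc42f000420ca183ddc390c04977220ffffc412c00410d31841e03b0e188672207fffc4efe0040144d8ae70034201a071207fffc18d0019f07418010016de0c4f729f7fffc007c019e01200360c16a21254721f7fffc32ca003e0c3f0554016920f7a729effffc007a019d0628829ac04801344721effffc3ed8003d0744868fc2b080f7b721e7fffc42e0003c00ce0066c03340199))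
(Tr.leaf (nat_lit 0x812dffffc5b1601b916478016c5d4c119180adffffc0d1c298e17470a6cc00b601b8802dffffc4d5801b700db042445730005b822d7fffc036a005a00da04e644918149b822cffffc591e0059174585a9803662ba1822bffffc4948005700d908a2803621caa822affffc38c0005506b886d742cb01c7e812a7fffc04aa21aa062b8015006ae108381a9ffffc412e185e00298665838ee1b9682297fffc450c00520baf85a5c36f017778227ffffc14ce004f00d809a7c035e258582277fffc3ef6004e02ac0158028e2065f82a6ffffc009a226406ba831d0049e11888226ffffc3ca6004d0ccb8157c28d4066072267fffc035c004c00d6806b05b4401ab7225ffffc0354004b124e8664803521a94))))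
(Tr.node (nat_lit 8) (Tr.leaf (nat_lit 0x823affffc4146007508dc09614037c279f823a7fffc476e007413d585e8c472816a482397fffc4d76007211c0062d44d72279a81b87fffc453817a400380a9d8077a2da281387fffc475016bc14bb001c05174138c80b87fffc4534299a00de8964000e0289d80387fffc417212ab00de04a30277600708236ffffc5570006d14d1856ac551a14ac8234ffffc3f0e00690c41056183b2c037882347fffc3eee00680db506a1c3d2e1a8781b3ffffc19602fba003386eb853220da78133ffffc335a1b940d570019c493c198080b3ffffc195e2d9315488b6d800ce25938033ffffc496801bb11da862004b24006782337fffc4740006615c983e34552a108f82317fffc0374006212d389a684d5018b5))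
(Tr.node (nat_lit 9) (Tr.leaf (nat_lit 0x90c2ffffc17262aaf14d005edc010a12b482c0ffffc01021cac0cca06a5449561dbd81c0ffffc31282ca10040896f82f6e12b18140ffffc4f1a1dae135f002044f7013988040ffffc57441199134f052604b5c008182c07fffc01002088105d88aa83f781b8a80c07fffc3d7804a60edc892a4010014b281bfffffc453604a8003f8a6e84b2025a880bfffffc4b4219b6124806af400fe0c95803fffffc216605a917d30562c5b1e007f81beffffc4afa1eb0003e88ec44b4a0ebe813effffc4714169c1158801f44564159e803effffc433e19b1144c05a78136c007d823cffffc5956007915db84a8059022c9c80bb7fffc4d4e2dad0d5d0a5fc00ec2a8b803b7fffc452219bd155784e8853600076))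
(Tr.leaf (nat_lit 0x7fffffffffffffffffffffffffffff90cfffffc436c1fbe12d6092b4013e0da591cd7fffc477a18a0004d0669c05381cae91ccffffc3b52159b004c84ed03d5414b792497fffc4b3a00920fd508eec253211b992c87fffc01202e950cd08a2a04f3629ba9247ffffc3f32008f0e54892e44b3a12bb90477fffc573023b4084f89ac04d58008e9246ffffc453c008d155105abc2d5a15bc91c6ffffc457c18a700468b24c11462eb692c67fffc011816b21149066744b6a179091c67fffc472424b80046052f0476811af90c5ffffc1f4c1fb318598a23801160eb091c57fffc376217b5004508ec8434813a990c57fffc396418a310d208a94011411ad91c2ffffc172a1da5004289ee051400fb3))))))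

noncomputable def T : Tr := t0

def RT : List (List (List Nat)) := [
  [[nat_lit 4, nat_lit 1, nat_lit 4, nat_lit 0, nat_lit 4, nat_lit 3, nat_lit 4],
   [nat_lit 4, nat_lit 3, nat_lit 4, nat_lit 0, nat_lit 4, nat_lit 1, nat_lit 4],
   [nat_lit 7],
   [nat_lit 5, nat_lit 0, nat_lit 1, nat_lit 0, nat_lit 5],
   [nat_lit 4, nat_lit 0, nat_lit 4, nat_lit 0, nat_lit 4, nat_lit 0, nat_lit 4],
   [nat_lit 3, nat_lit 4, nat_lit 5, nat_lit 0, nat_lit 1, nat_lit 2, nat_lit 5, nat_lit 4, nat_lit 1],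
   [nat_lit 1, nat_lit 0, nat_lit 5, nat_lit 0, nat_lit 5],
   [nat_lit 2, nat_lit 4, nat_lit 0, nat_lit 1, nat_lit 3, nat_lit 0, nat_lit 4],
   [nat_lit 1, nat_lit 0, nat_lit 1, nat_lit 0, nat_lit 1],
   [nat_lit 1, nat_lit 2, nat_lit 5, nat_lit 4, nat_lit 1, nat_lit 0, nat_lit 3, nat_lit 4, nat_lit 5],
   [nat_lit 5, nat_lit 0, nat_lit 5, nat_lit 0, nat_lit 1],
   [nat_lit 2, nat_lit 1, nat_lit 0, nat_lit 4, nat_lit 3, nat_lit 0, nat_lit 1, nat_lit 4, nat_lit 1],
   [nat_lit 2, nat_lit 0, nat_lit 2],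
   [nat_lit 1, nat_lit 4, nat_lit 5, nat_lit 2, nat_lit 1, nat_lit 0, nat_lit 5, nat_lit 4, nat_lit 3],
   [nat_lit 3, nat_lit 4, nat_lit 0, nat_lit 1, nat_lit 2, nat_lit 0, nat_lit 1, nat_lit 4, nat_lit 1],
   [nat_lit 3, nat_lit 0, nat_lit 3, nat_lit 0, nat_lit 3],
   [nat_lit 1, nat_lit 4, nat_lit 1, nat_lit 0, nat_lit 2, nat_lit 1, nat_lit 0, nat_lit 4, nat_lit 3],
   [nat_lit 3, nat_lit 1, nat_lit 0, nat_lit 4, nat_lit 2, nat_lit 0, nat_lit 4]],
  [[nat_lit 5, nat_lit 1, nat_lit 5],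
   [nat_lit 3, nat_lit 1, nat_lit 3],
   [nat_lit 4, nat_lit 0, nat_lit 4, nat_lit 3, nat_lit 4, nat_lit 0, nat_lit 4],
   [nat_lit 7],
   [nat_lit 0, nat_lit 1, nat_lit 0, nat_lit 1, nat_lit 0],
   [nat_lit 2, nat_lit 1, nat_lit 2, nat_lit 1, nat_lit 2],
   [nat_lit 4, nat_lit 2, nat_lit 4, nat_lit 1, nat_lit 4, nat_lit 2, nat_lit 4],
   [nat_lit 0, nat_lit 5, nat_lit 4, nat_lit 3, nat_lit 0, nat_lit 1, nat_lit 4, nat_lit 5, nat_lit 2],
   [nat_lit 3, nat_lit 0, nat_lit 4, nat_lit 0, nat_lit 2, nat_lit 4, nat_lit 0],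
   [nat_lit 4, nat_lit 3, nat_lit 2, nat_lit 4, nat_lit 3, nat_lit 1, nat_lit 4, nat_lit 3, nat_lit 4],
   [nat_lit 0, nat_lit 4, nat_lit 2, nat_lit 0, nat_lit 4, nat_lit 0, nat_lit 3],
   [nat_lit 0, nat_lit 5, nat_lit 0, nat_lit 5, nat_lit 0],
   [nat_lit 2, nat_lit 1, nat_lit 5, nat_lit 2, nat_lit 5]],
  [[nat_lit 3, nat_lit 2, nat_lit 3],
   [nat_lit 7],
   [nat_lit 5, nat_lit 1, nat_lit 2, nat_lit 1, nat_lit 5],
   [nat_lit 4, nat_lit 1, nat_lit 4, nat_lit 2, nat_lit 4, nat_lit 1, nat_lit 4],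
   [nat_lit 4, nat_lit 3, nat_lit 4, nat_lit 2, nat_lit 4, nat_lit 3, nat_lit 4],
   [nat_lit 0, nat_lit 4, nat_lit 0, nat_lit 3, nat_lit 1, nat_lit 0, nat_lit 4],
   [nat_lit 4, nat_lit 3, nat_lit 1, nat_lit 4, nat_lit 3, nat_lit 4, nat_lit 1, nat_lit 4, nat_lit 3],
   [nat_lit 0, nat_lit 2, nat_lit 0],
   [nat_lit 1, nat_lit 2, nat_lit 1, nat_lit 2, nat_lit 1],
   [nat_lit 4, nat_lit 0, nat_lit 1, nat_lit 3, nat_lit 0, nat_lit 4, nat_lit 0],
   [nat_lit 4, nat_lit 2, nat_lit 4, nat_lit 2, nat_lit 1, nat_lit 4, nat_lit 3, nat_lit 4, nat_lit 1]],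
  [[nat_lit 5, nat_lit 3, nat_lit 5],
   [nat_lit 4, nat_lit 0, nat_lit 4, nat_lit 1, nat_lit 4, nat_lit 0, nat_lit 4],
   [nat_lit 4, nat_lit 3, nat_lit 4, nat_lit 3, nat_lit 4, nat_lit 3, nat_lit 4],
   [nat_lit 1, nat_lit 0, nat_lit 4, nat_lit 2, nat_lit 0, nat_lit 4, nat_lit 0],
   [nat_lit 0, nat_lit 3, nat_lit 0, nat_lit 3, nat_lit 0],
   [nat_lit 4, nat_lit 2, nat_lit 4, nat_lit 3, nat_lit 4, nat_lit 2, nat_lit 4],
   [nat_lit 0, nat_lit 1, nat_lit 4, nat_lit 5, nat_lit 2, nat_lit 1, nat_lit 0, nat_lit 5, nat_lit 4],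
   [nat_lit 7],
   [nat_lit 1, nat_lit 3, nat_lit 1],
   [nat_lit 2, nat_lit 3, nat_lit 2],
   [nat_lit 0, nat_lit 4, nat_lit 0, nat_lit 2, nat_lit 4, nat_lit 0, nat_lit 1],
   [nat_lit 5, nat_lit 0, nat_lit 5, nat_lit 4, nat_lit 1, nat_lit 2, nat_lit 0, nat_lit 1, nat_lit 0, nat_lit 4, nat_lit 1]],
  [[nat_lit 3, nat_lit 4, nat_lit 3, nat_lit 4, nat_lit 3, nat_lit 4, nat_lit 3],
   [nat_lit 0, nat_lit 2, nat_lit 4, nat_lit 0, nat_lit 1, nat_lit 3, nat_lit 0],
   [nat_lit 7],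
   [nat_lit 5, nat_lit 4, nat_lit 5, nat_lit 4, nat_lit 5, nat_lit 4, nat_lit 5, nat_lit 4, nat_lit 5, nat_lit 4, nat_lit 5],
   [nat_lit 0, nat_lit 3, nat_lit 1, nat_lit 0, nat_lit 4, nat_lit 2, nat_lit 0],
   [nat_lit 0, nat_lit 4, nat_lit 0, nat_lit 4, nat_lit 0, nat_lit 4, nat_lit 0],
   [nat_lit 1, nat_lit 4, nat_lit 0, nat_lit 4, nat_lit 3, nat_lit 4, nat_lit 0],
   [nat_lit 0, nat_lit 4, nat_lit 1, nat_lit 4, nat_lit 0, nat_lit 4, nat_lit 3],
   [nat_lit 1, nat_lit 4, nat_lit 2, nat_lit 4, nat_lit 1, nat_lit 4, nat_lit 2],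
   [nat_lit 3, nat_lit 4, nat_lit 0, nat_lit 4, nat_lit 1, nat_lit 4, nat_lit 0],
   [nat_lit 0, nat_lit 4, nat_lit 3, nat_lit 4, nat_lit 0, nat_lit 4, nat_lit 1],
   [nat_lit 3, nat_lit 2, nat_lit 4, nat_lit 3, nat_lit 1, nat_lit 4, nat_lit 3, nat_lit 4, nat_lit 1],
   [nat_lit 5, nat_lit 4, nat_lit 0, nat_lit 4, nat_lit 5, nat_lit 4, nat_lit 2, nat_lit 4, nat_lit 1, nat_lit 5, nat_lit 4, nat_lit 0],
   [nat_lit 3, nat_lit 4, nat_lit 2, nat_lit 4, nat_lit 3, nat_lit 4, nat_lit 2],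
   [nat_lit 0, nat_lit 1, nat_lit 3, nat_lit 0, nat_lit 4, nat_lit 0, nat_lit 2]],
  [[nat_lit 2, nat_lit 5, nat_lit 1, nat_lit 2, nat_lit 1],
   [nat_lit 4, nat_lit 2, nat_lit 4, nat_lit 1, nat_lit 5, nat_lit 4, nat_lit 0, nat_lit 4, nat_lit 5, nat_lit 4, nat_lit 0, nat_lit 4],
   [nat_lit 1, nat_lit 5, nat_lit 1],
   [nat_lit 1, nat_lit 2, nat_lit 1, nat_lit 5, nat_lit 2],
   [nat_lit 0, nat_lit 1, nat_lit 0, nat_lit 5, nat_lit 0],
   [nat_lit 0, nat_lit 5, nat_lit 0, nat_lit 1, nat_lit 0],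
   [nat_lit 3, nat_lit 5, nat_lit 3],
   [nat_lit 4, nat_lit 5, nat_lit 4, nat_lit 5, nat_lit 4, nat_lit 5, nat_lit 4, nat_lit 5, nat_lit 4, nat_lit 5, nat_lit 4],
   [nat_lit 3, nat_lit 1, nat_lit 2, nat_lit 1, nat_lit 3, nat_lit 5, nat_lit 2],
   [nat_lit 1, nat_lit 4, nat_lit 5, nat_lit 1, nat_lit 4, nat_lit 5, nat_lit 4, nat_lit 1, nat_lit 4, nat_lit 1, nat_lit 4, nat_lit 5, nat_lit 4, nat_lit 1, nat_lit 5, nat_lit 4]],
  []]

def HT : List (List (Nat × Nat × Nat)) := [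
  [(0, 14, 1), (0, 14, 5), (2, 0, 0), (0, 20, 5), (0, 13, 1), (0, 29, 7), (0, 20, 1), (0, 12, 6), (0, 6, 1), (0, 29, 1), (0, 20, 3), (1, 17, 7), (0, 7, 1), (1, 29, 4), (0, 17, 8), (0, 11, 1), (1, 17, 3), (1, 12, 5)],
  [(0, 18, 1), (0, 9, 1), (0, 14, 3), (2, 1, 0), (0, 6, 0), (0, 8, 1), (0, 15, 1), (1, 29, 9), (0, 12, 2), (1, 30, 4), (1, 12, 7), (0, 20, 2), (0, 21, 1)],
  [(0, 10, 1), (2, 2, 0), (0, 21, 5), (0, 15, 3), (0, 28, 1), (1, 12, 2), (1, 30, 7), (0, 7, 0), (0, 8, 0), (0, 12, 7), (0, 23, 2)],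
  [(0, 19, 1), (0, 14, 7), (0, 16, 1), (1, 12, 6), (0, 11, 0), (0, 28, 3), (1, 29, 3), (2, 3, 0), (0, 9, 0), (0, 10, 0), (0, 12, 3), (1, 26, 3)],
  [(0, 16, 0), (0, 12, 5), (2, 4, 0), (0, 22, 1), (1, 12, 4), (0, 13, 0), (0, 14, 2), (0, 14, 0), (0, 15, 0), (0, 14, 6), (0, 14, 4), (1, 30, 5), (1, 24, 1), (0, 28, 2), (0, 12, 0)],
  [(0, 21, 4), (1, 24, 6), (0, 18, 0), (0, 21, 0), (0, 20, 0), (0, 20, 4), (0, 19, 0), (0, 22, 0), (0, 25, 7), (1, 27, 7)],
  []]

def R : List (List Nat) :=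
  [[0, 0],
   [1, 1],
   [2, 2],
   [3, 3],
   [4, 4],
   [5, 5],
   [0, 1, 0, 1, 0, 1],
   [0, 2, 0, 2],
   [1, 2, 1, 2, 1, 2],
   [1, 3, 1, 3],
   [2, 3, 2, 3],
   [0, 3, 0, 3, 0, 3],
   [0, 1, 3, 0, 4, 0, 2, 4],
   [0, 4, 0, 4, 0, 4, 0, 4],
   [0, 4, 1, 4, 0, 4, 3, 4],
   [1, 4, 2, 4, 1, 4, 2, 4],
   [3, 4, 3, 4, 3, 4, 3, 4],
   [0, 1, 2, 0, 1, 4, 1, 0, 3, 4],
   [1, 5, 1, 5],
   [3, 5, 3, 5],
   [0, 1, 0, 5, 0, 5],
   [1, 2, 1, 5, 2, 5],
   [4, 5, 4, 5, 4, 5, 4, 5, 4, 5, 4, 5],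
   [1, 2, 4, 2, 4, 2, 1, 4, 3, 4],
   [0, 4, 5, 1, 4, 2, 4, 5, 4, 0, 4, 5, 4],
   [1, 2, 1, 3, 5, 2, 5, 3],
   [0, 1, 0, 2, 1, 4, 5, 0, 5, 3, 1, 4],
   [1, 4, 1, 4, 5, 4, 1, 5, 4, 1, 5, 4, 5, 1, 4, 5, 4],
   [2, 4, 3, 4, 2, 4, 3, 4],
   [0, 1, 2, 5, 4, 1, 0, 3, 4, 5],
   [1, 3, 4, 2, 3, 4, 1, 4, 3, 4],
   [0, 1, 4, 0, 4, 1, 0, 4, 2, 4]]

def W : List (List Nat) := [[0],
   [1],
   [2],
   [3],
   [4]]

noncomputable def P : Par := ⟨T, (nat_lit 4), (nat_lit 15), (nat_lit 136), (nat_lit 17), (nat_lit 131071), (nat_lit 8), (nat_lit 255), (nat_lit 6), (nat_lit 191), (nat_lit 192), (nat_lit 0x398a418820), RT⟩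

noncomputable def J0 : List Nat := [
  nat_lit 0x22c20008f080021c20009f080022c20025110408204000020800c101c000010410280002700208000400000104082088a000131003823020000008205c78200000808504130100806041023018904a04a04881040c130800201,
  nat_lit 0x8200226209040050220810408000041001310438280200001040040000208008000041001820280000208200000052082000008000820001000002c1020000104006080e000008208040001,
  nat_lit 0x48208000020102080004000001040c101c000010410000b02e002081006080e00000960816000170c10400020000008205d04000000b800820001000000410208205000040a14100008000041001,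
  nat_lit 0x4102c04100000403541000080000413010080b341020822280005c31410000a80004118100000041020000104004001081040c1024000010020a804020820580005c014100008000002081,
  nat_lit 0x82602c000008205a082000008000041001008000410208222800040801e09c080090020810000082002c0244082060a540014080005c148104111406026180704805a382600008080041201,
  nat_lit 0x82002620070400620000104088e90413010080b04102302490400608d200200800004100160e080000311aa08100440282080080405aa0811804482802e18840820608c0b31c0a010540201,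
  nat_lit 0x827020024104005c2208104081070414017080204102b3c1000a040002a080080005c1001000c682802c1411004044648208808d62541001508823410203801040040322c70408000041201,
  nat_lit 0x8200200001040044428209c0804459e081198c482802c000105205c300e0a00806682200160a0880202e188904404005820800800014138100c008200304000010041040a810080104c0001,
  nat_lit 0x82002e02c104006088e00000a20804f001702080e00201020800044002e0a0088655c140100c00828030407000004104401900b8104000010005040802e019704004060020800b80a041481,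
  nat_lit 0x8200000302e822000005c35820800c10256000148208124020182080406088ea0000be080c040128c1044a02082902000580380b040c10254740148208000020002098a040d1097040820814b201,
  nat_lit 0xe0411200ca088aa0018285040602f829120e06070410200984023a081728505a0020625704e0608c48100080696414015094d7c1026209505006621415980b86c8284017c14ad8402040810204081]

theorem c0 : chk T (nat_lit 4) (nat_lit 15) (nat_lit 136) (nat_lit 17) (nat_lit 131071) (nat_lit 8) (nat_lit 255) (nat_lit 6) (nat_lit 191) (nat_lit 192) (nat_lit 0x398a418820) (nat_lit 5) (nat_lit 31) RT (nat_lit 16) J0 (nat_lit 16) = true := by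
  decide +kernel

theorem r0 : P.RowsOK 16 192 := chk_sound P _ _ _ J0 _ _ (by decide +kernel) c0

theorem index.{u} : IndexLe.{u} 6 R W 175 :=
  indexLe_of_cert P HT (by decide +kernel)
    (show P.RowsOK 16 192 from r0)

end Tk0

theorem upK : CardLe (genW s [[0], [1], [2], [3], [4], [5]]) 252000 :=
  CardLe.tc (V' := [[0], [1], [2], [3], [4]]) (n := 175) (m := 1440) [0, 1, 2, 3, 4, 5] Tk0.index pres.sat (by decide +kernel) (by decide +kernel) (by decide +kernel) upK_1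

theorem up : CardLe (gen s 7) 44352000 := upK.step (Top.index _ s pres.sat)

end Cfsg.Agent.SchurG.HS
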